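import Groth.Agent.GModLib.ObsCrit
import Groth.Agent.Chev.CentCover
import Mathlib.AlgebraicGeometry.Morphisms.LocalFlatDescent
import Mathlib.AlgebraicGeometry.Morphisms.FlatDescent
import Mathlib.AlgebraicGeometry.ValuativeCriterion

/-!
Points with values in valuation rings: factorisation through an open cell of a proper homogeneous space.
-/

set_option autoImplicit false
set_option backward.isDefEq.respectTransparency false
set_option maxHeartbeats 2000000
set_option synthInstance.maxHeartbeats 200000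
set_option linter.style.haveILetI false
set_option linter.unusedSectionVars false

universe u

open CategoryTheory Limits MonoidalCategory CartesianMonoidalCategory MonObj GrpObj AlgebraicGeometry
open WithConv
open scoped CategoryTheory.Obj

noncomputable section

namespace Groth.Agent.GrossU

open Groth.Agent.GModLib Groth.Agent.Chev Groth.Agent.SubGen

variable {k : Type u} [Field k] [IsAlgClosed k]
  {G Bo X U : Over (Spec (CommRingCat.of k))} [GrpObj G] [GrpObj Bo]

/-- the orbit cell of a slice is open in the homogeneous space -/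
theorem isOpenImmersion_slice [IsAffine G.left] [IsSeparated X.hom] (iB : Bo ⟶ G) [Mono iB] (π : G ⟶ X)
    [Flat π.left] [Surjective π.left]
    (hπ : ∀ (T : Over (Spec (CommRingCat.of k))) (x y : T ⟶ G), x ≫ π = y ≫ π ↔ ∃ b, y = x * (b ≫ iB))
    (j : U ⟶ G) (hj : IsOpenImmersion ((fst U Bo ≫ j) * (snd U Bo ≫ iB)).left) :
    IsOpenImmersion (j ≫ π).left := by
  let cell : U ⊗ Bo ⟶ G := (fst U Bo ≫ j) * (snd U Bo ≫ iB)
  have hw : cell ≫ π = fst U Bo ≫ j ≫ π := by
    have h := (hπ _ (fst U Bo ≫ j) cell).2 ⟨snd U Bo, rfl⟩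
    rw [Category.assoc] at h
    exact h.symm
  have hsq : IsPullback cell (fst U Bo) π (j ≫ π) := by
    refine IsPullback.mk' hw (fun T p p' h1 h2 => ?_) (fun T x v h => ?_)
    · simp only [cell, MonObj.comp_mul, ← Category.assoc] at h1
      rw [h2] at h1
      exact CartesianMonoidalCategory.hom_ext _ _ h2 ((cancel_mono iB).1 (mul_left_cancel h1))
    · obtain ⟨b, hb⟩ := (hπ T (v ≫ j) x).1 (by rw [Category.assoc]; exact h.symm)
      refine ⟨lift v b, ?_, lift_fst _ _⟩
      simp only [cell, MonObj.comp_mul, lift_fst_assoc, lift_snd_assoc]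
      exact hb.symm
  haveI : IsSeparated (π.left ≫ X.hom) := by rw [Over.w]; infer_instance
  haveI : QuasiCompact (π.left ≫ X.hom) := by rw [Over.w]; infer_instance
  haveI : QuasiCompact π.left := QuasiCompact.of_comp π.left X.hom
  exact MorphismProperty.of_isPullback_of_descendsAlong (P := @IsOpenImmersion)
    (Q := (@Surjective ⊓ @Flat ⊓ @QuasiCompact : MorphismProperty Scheme.{u}))
    (hsq.map (Over.forget _)) ⟨⟨‹Surjective π.left›, ‹Flat π.left›⟩, ‹QuasiCompact π.left›⟩ hj

/-- **valued points**: a point with values in a valued field is an integral point times a point of the stabiliser -/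
theorem exists_integral_mul [IsAffine G.left] [Smooth G.hom] [IsProper X.hom] (iB : Bo ⟶ G) [Mono iB] (π : G ⟶ X)
    [Flat π.left] [Surjective π.left]
    (hπ : ∀ (T : Over (Spec (CommRingCat.of k))) (x y : T ⟶ G), x ≫ π = y ≫ π ↔ ∃ b, y = x * (b ≫ iB))
    (j : U ⟶ G) (hj : IsOpenImmersion ((fst U Bo ≫ j) * (snd U Bo ≫ iB)).left) (v₀ : RP U) (hv₀ : v₀ ≫ j = 1)
    {C : Type u} [CommRing C] [HopfAlgebra k C] (e : (Spec (CommRingCat.of C)).asOver (Spec (CommRingCat.of k)) ≅ G)
    [IsMonHom e.hom]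
    {F : Type u} [Field F] [Algebra k F] (et : C →ₐ[k] F) (V : ValuationSubring F) (hk : ∀ c, algebraMap k F c ∈ V) :
    ∃ (g : C →ₐ[k] F) (b : VecGrp.pt k F ⟶ Bo), (∀ c, g c ∈ V) ∧ pnt e et = pnt e g * (b ≫ iB) := by
  classical
  letI : Algebra k V := ((algebraMap k F).codRestrict V.toSubring hk).toAlgebra
  let val : V →ₐ[k] F := { V.subtype with commutes' := fun _ => rfl }
  have hmap : Spec.map (CommRingCat.ofHom (algebraMap V F)) ≫ (VecGrp.pt k V).hom = (VecGrp.pt k F).hom := by
    show Spec.map _ ≫ Spec.map _ = Spec.map _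
    rw [← Spec.map_comp]
    rfl
  let i₁ := (pnt e et ≫ π).left
  have hsq : CommSq i₁ (Spec.map (CommRingCat.ofHom (algebraMap V F))) X.hom (VecGrp.pt k V).hom :=
    ⟨(Over.w (pnt e et ≫ π)).trans hmap.symm⟩
  have hex : ValuativeCriterion.Existence X.hom := by
    have h : UniversallyClosed X.hom := inferInstance
    rw [UniversallyClosed.eq_valuativeCriterion] at h
    exact h.1
  obtain ⟨l, hl₁, hl₂⟩ := (hex { R := V, K := F, i₁ := i₁, i₂ := (VecGrp.pt k V).hom, commSq := hsq }).exists_lift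
  let lV : VecGrp.pt k V ⟶ X := Over.homMk l hl₂
  have hlV : VecGrp.ptMap val ≫ lV = pnt e et ≫ π := Over.OverMorphism.ext hl₁
  -- a rational point in the closure of the closed point
  haveI : CompactSpace X.left := QuasiCompact.compactSpace_of_compactSpace X.hom
  obtain ⟨q, hq, hqc⟩ := IsClosed.exists_closed_singleton (isClosed_closure (s := {l (IsLocalRing.closedPoint V)}))
    ⟨_, subset_closure (Set.mem_singleton _)⟩
  obtain ⟨g₁, hg₁, hg₁c⟩ := IsClosed.exists_closed_singleton (hqc.preimage π.left.continuous)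
    (π.left.surjective q)
  obtain ⟨q', hq'⟩ := exists_rpt (mem_closedPoints_iff.2 hg₁c)
  -- translate the slice
  let j' : U ⟶ G := (toUnit U ≫ q') * j
  have hj' : IsOpenImmersion ((fst U Bo ≫ j') * (snd U Bo ≫ iB)).left := by
    let T : G ⟶ G := (toUnit G ≫ q') * 𝟙 G
    have hT : IsIso T := by
      refine ⟨(toUnit G ≫ q'⁻¹) * 𝟙 G, ?_, ?_⟩ <;>
        simp only [T, MonObj.comp_mul, Category.comp_id, ← Category.assoc, toUnit_unique (_ ≫ toUnit G) (toUnit G)] <;>
        rw [← _root_.mul_assoc, GrpObj.comp_inv] <;> simp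
    haveI : IsIso T.left := inferInstanceAs (IsIso ((Over.forget _).map T))
    have e1 : (fst U Bo ≫ j') * (snd U Bo ≫ iB) = ((fst U Bo ≫ j) * (snd U Bo ≫ iB)) ≫ T := by
      simp only [j', T, MonObj.comp_mul, Category.comp_id, ← Category.assoc,
        toUnit_unique (fst U Bo ≫ toUnit U) (toUnit (U ⊗ Bo)),
        toUnit_unique (((fst U Bo ≫ j) * (snd U Bo ≫ iB)) ≫ toUnit G) (toUnit (U ⊗ Bo)), _root_.mul_assoc]
    rw [e1, Over.comp_left]
    infer_instance
  haveI := isOpenImmersion_slice iB π hπ j' hj'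
  have hqr : q ∈ Set.range (j' ≫ π).left := by
    have h1 : v₀ ≫ j' = q' := by
      simp only [j', MonObj.comp_mul, hv₀, _root_.mul_one, ← Category.assoc,
        toUnit_unique (v₀ ≫ toUnit U) (𝟙 _), Category.id_comp]
    refine ⟨rpt v₀, ?_⟩
    have h2 : rpt (v₀ ≫ j') = j'.left (rpt v₀) := rfl
    rw [Over.comp_left, Scheme.Hom.comp_apply, ← h2, h1, hq']
    exact hg₁
  have hrange : Set.range l ⊆ Set.range (j' ≫ π).left := by
    rintro _ ⟨p, rfl⟩
    have hop : IsOpen (Set.range (j' ≫ π).left) := (j' ≫ π).left.isOpenEmbedding.isOpen_range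
    exact (((IsLocalRing.specializes_closedPoint (p : PrimeSpectrum V)).map l.continuous).mem_open hop
      ((specializes_iff_mem_closure.2 hq).mem_open hop hqr))
  let σ : VecGrp.pt k V ⟶ U := Over.homMk (IsOpenImmersion.lift (j' ≫ π).left l hrange) (by
    rw [← Over.w (j' ≫ π), ← Category.assoc, IsOpenImmersion.lift_fac]
    exact hl₂)
  have hσ : σ ≫ j' ≫ π = lV := Over.OverMorphism.ext (IsOpenImmersion.lift_fac (j' ≫ π).left l hrange)
  obtain ⟨g₀, hg₀⟩ := exists_eq_pnt e (σ ≫ j')
  obtain ⟨b, hb⟩ := (hπ _ (pnt e (val.comp g₀)) (pnt e et)).1 (by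
    rw [← hlV, ← hσ, ← ptMap_pnt, hg₀, Category.assoc, Category.assoc])
  exact ⟨val.comp g₀, b, fun c => (g₀ c).2, hb⟩

end Groth.Agent.GrossU
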