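import Groth.Agent.GrossU.Core
import Groth.Agent.GrossU.CellVal
import Groth.Agent.GModLib.Transfer
import Groth.Agent.GModLib.Alg
import Groth.Agent.Chev.TorusImage

/-!
Preparations for the finite generation theorem: points of subgroups, fixed vectors, weights.
-/

set_option autoImplicit false
set_option backward.isDefEq.respectTransparency false
set_option maxHeartbeats 2000000
set_option synthInstance.maxHeartbeats 200000
set_option linter.style.haveILetI false
set_option linter.unusedSectionVars false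

universe u

open CategoryTheory MonoidalCategory CartesianMonoidalCategory MonObj GrpObj AlgebraicGeometry
open TensorProduct WithConv

noncomputable section

namespace Groth.Agent.GrossU

open Groth.Agent.GModLib

variable {k : Type u} [Field k]
variable {G H : Over (Spec (CommRingCat.of k))} [GrpObj G] [GrpObj H]
variable {C : Type u} [CommRing C] [HopfAlgebra k C]

/-- the points of a subgroup as points of the algebra -/
def pts (e : (Spec (CommRingCat.of C)).asOver (Spec (CommRingCat.of k)) ≅ G) [IsMonHom e.hom] (i : H ⟶ G)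
    [IsMonHom i] : Subgroup (WithConv (C →ₐ[k] k)) where
  carrier := {φ | ∃ h : VecGrp.pt k k ⟶ H, h ≫ i = pnt e φ.ofConv}
  one_mem' := ⟨1, by rw [MonObj.one_comp, pnt_one]⟩
  mul_mem' := by
    rintro a b ⟨x, hx⟩ ⟨y, hy⟩
    refine ⟨x * y, ?_⟩
    rw [MonObj.mul_comp, hx, hy, ← pnt_mul, toConv_ofConv, toConv_ofConv]
  inv_mem' := by
    rintro a ⟨x, hx⟩
    refine ⟨x⁻¹, ?_⟩
    rw [GrpObj.inv_comp, hx]
    refine inv_eq_of_mul_eq_one_right ?_
    rw [← pnt_mul, toConv_ofConv, toConv_ofConv, mul_inv_cancel, pnt_one]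

variable [IsAlgClosed k]

/-- coordinates of a subgroup -/
theorem exists_coordinates (e : (Spec (CommRingCat.of C)).asOver (Spec (CommRingCat.of k)) ≅ G) [IsMonHom e.hom]
    (i : H ⟶ G) [IsMonHom i] [IsClosedImmersion i.left] [IsAffine G.left] [Smooth H.hom] :
    ∃ (D : Type u) (_ : CommRing D) (_ : HopfAlgebra k D) (_ : Algebra.FiniteType k D) (_ : _root_.IsReduced D)
      (e' : (Spec (CommRingCat.of D)).asOver (Spec (CommRingCat.of k)) ≅ H) (_ : IsMonHom e'.hom) (π : C →ₐc[k] D),
      (∀ (B : Type u) [CommRing B] [Algebra k B] (ψ : D →ₐ[k] B),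
        pnt e' ψ ≫ i = pnt e (ψ.comp (π : C →ₐ[k] D))) ∧ SG π = pts e i := by
  haveI : IsAffine H.left := isAffine_of_isAffineHom i.left
  obtain ⟨D, hD, e', he'⟩ := FinHopf.exists_hopf (R := CommRingCat.of k) H
  haveI := he'
  haveI : Algebra.FiniteType k D := finiteType_of_smooth e'
  haveI : _root_.IsReduced D := isReduced_of_smooth e'
  let w : (MTBridge.specGrp k D).X ⟶ (MTBridge.specGrp k C).X := e'.hom ≫ i ≫ e.inv
  haveI : IsMonHom w := by dsimp [w]; infer_instance
  obtain ⟨π, hπ⟩ := MTBridge.exists_bialgHom w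
  have hcomp : ∀ (B : Type u) [CommRing B] [Algebra k B] (ψ : D →ₐ[k] B),
      pnt e' ψ ≫ i = pnt e (ψ.comp (π : C →ₐ[k] D)) := fun B _ _ ψ => by
    refine Over.OverMorphism.ext ?_
    show (Spec.map (CommRingCat.ofHom ψ.toRingHom) ≫ e'.hom.left) ≫ i.left =
      Spec.map (CommRingCat.ofHom (ψ.comp (π : C →ₐ[k] D)).toRingHom) ≫ e.hom.left
    have h2 : e'.hom.left ≫ i.left = w.left ≫ e.hom.left := by
      rw [← Over.comp_left, ← Over.comp_left]
      simp [w]
    rw [Category.assoc, h2, hπ, ← Spec.map_comp_assoc]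
    rfl
  refine ⟨D, inferInstance, inferInstance, inferInstance, inferInstance, e', he', π, hcomp, ?_⟩
  ext φ
  constructor
  · rintro ⟨ψ, rfl⟩
    exact ⟨pnt e' ψ.ofConv, hcomp k ψ.ofConv⟩
  · rintro ⟨h, hh⟩
    obtain ⟨ψ, rfl⟩ := exists_eq_pnt e' h
    rw [hcomp] at hh
    exact ⟨toConv ψ, WithConv.ext (pnt_injective e hh)⟩

variable [Algebra.FiniteType k C] [_root_.IsReduced C]
variable (e : (Spec (CommRingCat.of C)).asOver (Spec (CommRingCat.of k)) ≅ G) [IsMonHom e.hom] (i : H ⟶ G) [IsMonHom i]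

/-- a subgroup without subtori fixes a vector of every subspace stable under right translations -/
theorem exists_rt_fixed [IsAffine H.left] [Smooth H.hom] [ConnectedSpace H.left] (hH : Red.HasNoSubtorus k H)
    (W : Submodule k C) (hW : ∀ v ∈ pts e i, ∀ w ∈ W, GModLib.rt v w ∈ W) (hne : W ≠ ⊥) :
    ∃ w ∈ W, w ≠ 0 ∧ ∀ v ∈ pts e i, GModLib.rt v w = w := by
  have hlid : ∀ (φ : WithConv (C →ₐ[k] k)) (x : C),
      TensorProduct.lid k C ((ofComod e C).ρ k (pnt e φ.ofConv) ((1 : k) ⊗ₜ[k] x)) = GModLib.rt φ x :=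
    fun φ x => by rw [lid_ofComod, ← act_eq_rt, ← RedLR.ptAct_eq_act, toConv_ofConv]
  obtain ⟨w, hw, hw0, hfix⟩ := exists_fixed_mem hH (ofComod e C) i W (fun h x hx => by
    obtain ⟨φ, hφ⟩ := exists_eq_pnt e (h ≫ i)
    rw [← hφ, show φ = (toConv φ).ofConv from rfl, hlid]
    exact hW _ ⟨h, hφ.symm⟩ x hx) hne
  refine ⟨w, hw, hw0, ?_⟩
  rintro v ⟨h, hh⟩
  have h1 := congrArg (TensorProduct.lid k C) (hfix k h)
  rw [hh, hlid, TensorProduct.lid_tmul, one_smul] at h1
  exact h1

/-- a subgroup without subtori fixes a vector of every subspace stable under left translations -/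
theorem exists_lt_fixed [IsAffine H.left] [Smooth H.hom] [ConnectedSpace H.left] (hH : Red.HasNoSubtorus k H)
    (W : Submodule k C) (hW : ∀ v ∈ pts e i, ∀ w ∈ W, GModLib.lt v w ∈ W) (hne : W ≠ ⊥) :
    ∃ w ∈ W, w ≠ 0 ∧ ∀ v ∈ pts e i, GModLib.lt v w = w := by
  let σ : C →ₐ[k] C := HopfAlgebra.antipodeAlgHom k C
  have hσσ : ∀ f, σ (σ f) = f := fun f => ext_pt fun (φ : WithConv (C →ₐ[k] k)) => by
    rw [← WeilAff.Unip.inv_apply, ← WeilAff.Unip.inv_apply, _root_.inv_inv]
  have hlr : ∀ v f, GModLib.lt v (σ f) = σ (GModLib.rt v⁻¹ f) := fun v f => ext_pt fun (φ : WithConv (C →ₐ[k] k)) => by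
    rw [apply_lt, ← WeilAff.Unip.inv_apply, ← WeilAff.Unip.inv_apply, apply_rt, _root_.mul_inv_rev]
  obtain ⟨w, hw, hw0, hfix⟩ := exists_rt_fixed e i hH (W.comap σ.toLinearMap) (fun v hv w hw => by
    show σ (GModLib.rt v w) ∈ W
    rw [← _root_.inv_inv v, ← hlr]
    exact hW _ (Subgroup.inv_mem _ hv) _ hw) (by
    obtain ⟨x, hx, hx0⟩ := (Submodule.ne_bot_iff _).1 hne
    refine (Submodule.ne_bot_iff _).2 ⟨σ x, by show σ (σ x) ∈ W; rwa [hσσ], fun h => hx0 ?_⟩
    rw [← hσσ x, h, map_zero])
  refine ⟨σ w, hw, fun h => hw0 (by rw [← hσσ w, h, map_zero]), fun v hv => ?_⟩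
  rw [hlr, hfix _ (Subgroup.inv_mem _ hv)]

/-- a function vanishing on the points of an open piece of an irreducible group vanishes -/
theorem eq_zero_of_open [IsDomain C] {Ω : Over (Spec (CommRingCat.of k))} [LocallyOfFiniteType Ω.hom]
    [LocallyOfFiniteType G.hom] [Nonempty Ω.left] (j : Ω ⟶ G) [IsOpenImmersion j.left] (f : C)
    (hf : ∀ φ : WithConv (C →ₐ[k] k), (∃ z : VecGrp.pt k k ⟶ Ω, z ≫ j = pnt e φ.ofConv) → φ.ofConv f = 0) :
    f = 0 := by
  haveI : IsIso e.inv.left := inferInstanceAs (IsIso ((Over.forget _).map e.inv))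
  let R : Set (PrimeSpectrum C) := Set.range (j.left ≫ e.inv.left)
  have hR : IsOpen R := (j.left ≫ e.inv.left).isOpenEmbedding.isOpen_range
  obtain ⟨z₀⟩ := ‹Nonempty Ω.left›
  obtain ⟨I, hI⟩ := (PrimeSpectrum.isOpen_iff R).1 hR
  obtain ⟨h, hhI, hh0⟩ : ∃ h ∈ I, h ≠ 0 := by
    by_contra! hall
    have : (j.left ≫ e.inv.left) z₀ ∈ Rᶜ := by
      rw [hI]
      exact fun x hx => by rw [hall x hx]; exact Submodule.zero_mem _
    exact this ⟨z₀, rfl⟩
  refine mul_right_cancel₀ hh0 (ext_pt (k := k) fun φ => ?_)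
  rw [map_mul, zero_mul, map_zero]
  by_cases hφh : φ.ofConv h = 0
  · rw [hφh, mul_zero]
  · rw [hf φ ?_, zero_mul]
    have hrg : Set.range (pnt e φ.ofConv).left ⊆ Set.range j.left := by
      rintro _ ⟨p, rfl⟩
      have hmem : (Spec.map (CommRingCat.ofHom φ.ofConv.toRingHom)) p ∈ R := by
        by_contra hn
        have h1 : (Spec.map (CommRingCat.ofHom φ.ofConv.toRingHom)) p ∈ PrimeSpectrum.zeroLocus I := hI ▸ hn
        have h2 : φ.ofConv h ∈ p.asIdeal := h1 hhI
        exact p.2.ne_top (Ideal.eq_top_of_isUnit_mem _ h2 (Ne.isUnit hφh))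
      obtain ⟨z, hz⟩ := hmem
      refine ⟨z, ?_⟩
      have h3 := congrArg e.hom.left hz
      rw [← Scheme.Hom.comp_apply, Category.assoc, ← Over.comp_left, Iso.inv_hom_id, Over.id_left,
        Category.comp_id] at h3
      exact h3.trans rfl
    exact ⟨Over.homMk (IsOpenImmersion.lift j.left (pnt e φ.ofConv).left hrg) (by
        rw [← Over.w j, ← Category.assoc, IsOpenImmersion.lift_fac, Over.w]),
      Over.OverMorphism.ext (IsOpenImmersion.lift_fac j.left (pnt e φ.ofConv).left hrg)⟩

variable {D : Type u} [CommRing D] [HopfAlgebra k D] [Algebra.FiniteType k D] [_root_.IsReduced D]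

/-- semi-invariance holds at all points -/
theorem Semi.valued {πB : C →ₐc[k] D} {x y : C} (h : Semi (SG πB) x y) {F : Type u} [CommRing F] [Algebra k F]
    (g : C →ₐ[k] F) (ψ : D →ₐ[k] F) :
    (toConv g * toConv (ψ.comp (πB : C →ₐ[k] D))).ofConv x = g x * ψ ((πB : C →ₐ[k] D) y) := by
  let z : C ⊗[k] D := Algebra.TensorProduct.map (AlgHom.id k C) (πB : C →ₐ[k] D) (CoalgebraStruct.comul (R := k) x)
  have hev : ∀ (R : Type u) [CommRing R] [Algebra k R] (a : C →ₐ[k] R) (b : D →ₐ[k] R),
      Algebra.TensorProduct.lift a b (fun _ _ => Commute.all _ _) z =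
        (toConv a * toConv (b.comp (πB : C →ₐ[k] D))).ofConv x := by
    intro R _ _ a b
    show _ = (toConv a * toConv (b.comp (πB : C →ₐ[k] D))) x
    rw [AlgHom.convMul_apply]
    simp only [z]
    generalize CoalgebraStruct.comul (R := k) x = t
    induction t using TensorProduct.induction_on with
    | zero => simp
    | add p q hp hq => simp only [map_add, hp, hq]
    | tmul p q => simp
  have key : z = x ⊗ₜ[k] (πB : C →ₐ[k] D) y := by
    let b := Module.Free.chooseBasis k C
    apply (TensorProduct.equivFinsuppOfBasisLeft b).injective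
    ext j
    refine ext_pt fun (ψ : WithConv (D →ₐ[k] k)) => ?_
    let L : C ⊗[k] D →ₐ[k] C := Algebra.TensorProduct.lift (AlgHom.id k C) ((Algebra.ofId k C).comp ψ.ofConv)
      fun _ _ => Commute.all _ _
    have hL : ∀ t : C ⊗[k] D, ψ.ofConv (TensorProduct.equivFinsuppOfBasisLeft b t j) = b.repr (L t) j := by
      intro t
      induction t using TensorProduct.induction_on with
      | zero => simp
      | add p q hp hq => simp only [map_add, Finsupp.add_apply, hp, hq]
      | tmul p q =>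
        simp only [L, Algebra.TensorProduct.lift_tmul, AlgHom.id_apply, AlgHom.comp_apply, Algebra.ofId_apply]
        rw [mul_comm p, ← Algebra.smul_def]
        simp [mul_comm]
    have hL2 : L z = L (x ⊗ₜ[k] (πB : C →ₐ[k] D) y) := ext_pt fun φ => by
      have h1 : ∀ t, φ.ofConv (L t) = Algebra.TensorProduct.lift φ.ofConv ψ.ofConv (fun _ _ => Commute.all _ _) t := by
        intro t
        induction t using TensorProduct.induction_on with
        | zero => simp
        | add p q hp hq => simp only [map_add, hp, hq]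
        | tmul p q => simp [L, Algebra.ofId_apply]
      rw [h1, h1, hev, Algebra.TensorProduct.lift_tmul, toConv_ofConv]
      exact h φ _ ⟨ψ, rfl⟩
    rw [hL, hL, hL2]
  rw [← hev, key, Algebra.TensorProduct.lift_tmul]

/-- weights: invariant functions decompose under a diagonalisable group normalising the subgroup -/
theorem mem_span_eigen (πT : C →ₐc[k] D) (hspan : Submodule.span k {g : D | IsGroupLikeElem k g} = ⊤)
    (UP : Subgroup (WithConv (C →ₐ[k] k))) (hnorm : ∀ t ∈ SG πT, ∀ u ∈ UP, t⁻¹ * u * t ∈ UP)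
    {f : C} (hf : f ∈ GModLib.Inv UP) :
    f ∈ Submodule.span k {g : C | g ∈ GModLib.Inv UP ∧ ∀ t ∈ SG πT, ∃ a : k, GModLib.rt t g = a • g} := by
  classical
  have hv : Submodule.span k (Set.range (GroupLike.val : GroupLike k D → D)) = ⊤ := by
    rw [← hspan]
    refine le_antisymm (Submodule.span_mono ?_) (Submodule.span_mono ?_)
    · rintro _ ⟨m, rfl⟩; exact m.isGroupLikeElem_val
    · exact fun g hg => ⟨⟨g, hg⟩, rfl⟩
  let bD : Module.Basis (GroupLike k D) k D :=
    Module.Basis.mk linearIndep_groupLikeVal (ge_of_eq hv)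
  have hbD : ∀ m, bD m = m.val := fun m => Module.Basis.mk_apply _ _ m
  let z : C ⊗[k] D := Algebra.TensorProduct.map (AlgHom.id k C) (πT : C →ₐ[k] D) (CoalgebraStruct.comul (R := k) f)
  let c := TensorProduct.equivFinsuppOfBasisRight bD z
  have hz : z = c.sum fun m g => g ⊗ₜ[k] bD m := by
    conv_lhs => rw [← (TensorProduct.equivFinsuppOfBasisRight bD).symm_apply_apply z]
    rw [TensorProduct.equivFinsuppOfBasisRight_symm_apply]
  have hrt : ∀ ψ : WithConv (D →ₐ[k] k),
      GModLib.rt (resPt πT ψ) f = c.sum fun m g => ψ.ofConv m.val • g := by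
    intro ψ
    let L : C ⊗[k] D →ₐ[k] C := Algebra.TensorProduct.lift (AlgHom.id k C) ((Algebra.ofId k C).comp ψ.ofConv)
      fun _ _ => Commute.all _ _
    have h1 : GModLib.rt (resPt πT ψ) f = L z := by
      show Algebra.TensorProduct.lift _ _ (fun _ _ => Commute.all _ _) (CoalgebraStruct.comul (R := k) f) = _
      simp only [z]
      generalize CoalgebraStruct.comul (R := k) f = t
      induction t using TensorProduct.induction_on with
      | zero => simp
      | add p q hp hq => simp only [map_add, hp, hq]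
      | tmul p q => simp [L, resPt]
    rw [h1, hz, map_finsuppSum]
    refine Finsupp.sum_congr fun m _ => ?_
    simp [L, hbD, Algebra.ofId_apply, Algebra.smul_def, mul_comm]
  have hzero : ∀ a : GroupLike k D →₀ C, (∀ ψ : WithConv (D →ₐ[k] k),
      (a.sum fun m g => ψ.ofConv m.val • g) = 0) → a = 0 := by
    intro a ha
    ext m
    rw [Finsupp.zero_apply]
    refine ext_pt (k := k) fun φ => ?_
    rw [map_zero]
    have h1 : (a.sum fun m g => φ.ofConv g • bD m) = 0 := ext_pt (k := k) fun ψ => by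
      rw [map_finsuppSum, map_zero]
      have h2 := congrArg φ.ofConv (ha ψ)
      rw [map_finsuppSum, map_zero] at h2
      refine Eq.trans (Finsupp.sum_congr fun n _ => ?_) h2
      rw [map_smul, map_smul, smul_eq_mul, smul_eq_mul, hbD, mul_comm]
    by_cases hm : m ∈ a.support
    · exact linearIndependent_iff'.1 bD.linearIndependent a.support (fun n => φ.ofConv (a n)) h1 m hm
    · rw [Finsupp.notMem_support_iff.1 hm, map_zero]
  have hfc : f = c.sum fun _ g => g := by
    refine (rt_one_apply (k := k) f).symm.trans ?_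
    rw [← map_one (resPt πT), hrt]
    refine Finsupp.sum_congr fun m _ => ?_
    rw [AlgHom.convOne_apply, m.isGroupLikeElem_val.counit_eq_one, map_one, one_smul]
  -- coefficientwise linear identities
  have hlin : ∀ (L : C →ₗ[k] C) (w : GroupLike k D → k), (∀ ψ : WithConv (D →ₐ[k] k),
      L (GModLib.rt (resPt πT ψ) f) = c.sum fun m g => ψ.ofConv m.val • (w m • g)) → ∀ m, L (c m) = w m • c m := by
    intro L w h m
    let a : GroupLike k D →₀ C := Finsupp.onFinset c.support (fun n => L (c n) - w n • c n) fun n hn => by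
      refine Finsupp.mem_support_iff.2 fun h0 => hn ?_
      rw [h0, map_zero, smul_zero, sub_zero]
    have ha : a = 0 := hzero a fun ψ => by
      rw [Finsupp.onFinset_sum _ (fun n => smul_zero _)]
      simp only [smul_sub, Finset.sum_sub_distrib]
      rw [sub_eq_zero]
      have h1 := h ψ
      rw [hrt, map_finsuppSum] at h1
      refine Eq.trans (Finset.sum_congr rfl fun n _ => ?_) h1
      exact (map_smul L _ _).symm
    have h2 := DFunLike.congr_fun ha m
    rw [Finsupp.onFinset_apply, Finsupp.zero_apply, sub_eq_zero] at h2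
    exact h2
  rw [hfc]
  refine Submodule.sum_mem _ fun m _ => Submodule.subset_span ⟨fun u hu => ?_, ?_⟩
  · have h := hlin (GModLib.rt u).toLinearMap (fun _ => 1) (fun ψ => by
      simp only [one_smul, AlgHom.toLinearMap_apply]
      rw [← rt_mul_apply, ← hrt, show u * resPt πT ψ = resPt πT ψ * ((resPt πT ψ)⁻¹ * u * resPt πT ψ) by group,
        rt_mul_apply, hf _ (hnorm _ ⟨ψ, rfl⟩ u hu)]) m
    rwa [one_smul] at h
  · rintro _ ⟨χ, rfl⟩
    refine ⟨χ.ofConv m.val, hlin (GModLib.rt (resPt πT χ)).toLinearMap (fun n => χ.ofConv n.val) (fun ψ => ?_) m⟩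
    simp only [AlgHom.toLinearMap_apply]
    rw [← rt_mul_apply, ← map_mul, hrt]
    refine Finsupp.sum_congr fun n _ => ?_
    rw [smul_smul, mul_comm (ψ.ofConv n.val)]
    congr 1
    show (χ * ψ) n.val = _
    rw [AlgHom.convMul_apply, n.isGroupLikeElem_val.comul_eq_tmul_self]
    simp

/-- the coordinate ring of a split torus is spanned by group-like elements -/
theorem span_groupLike_torus {T : Over (Spec (CommRingCat.of k))} [GrpObj T] {M : Type} [AddCommGroup M]
    (E : Grp.mk T ≅ Grp.mk (Red.DS (Spec (CommRingCat.of k)) M))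
    (e' : (Spec (CommRingCat.of D)).asOver (Spec (CommRingCat.of k)) ≅ T) [IsMonHom e'.hom] :
    Submodule.span k {g : D | IsGroupLikeElem k g} = ⊤ := by
  obtain ⟨e₀⟩ := MTBridge.nonempty_DS_iso k M
  let f : MTBridge.specGrp k (MonoidAlgebra k (Multiplicative M)) ≅ MTBridge.specGrp k D :=
    e₀.symm ≪≫ E.symm ≪≫ (Grp.mkIso' e').symm
  obtain ⟨φ, hφ⟩ := Chev.exists_bialgHom f.hom
  haveI : IsIso f.hom.hom.hom.left :=
    inferInstanceAs (IsIso ((Over.forget _).map ((Grp.forget _).map f.hom)))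
  haveI : IsIso (Spec.map (CommRingCat.ofHom (φ : D →ₐ[k] MonoidAlgebra k (Multiplicative M)).toRingHom)) :=
    hφ ▸ inferInstance
  haveI : IsIso (Scheme.Spec.map (CommRingCat.ofHom (φ : D →ₐ[k] MonoidAlgebra k (Multiplicative M)).toRingHom).op) :=
    ‹IsIso (Spec.map _)›
  haveI := isIso_of_fully_faithful Scheme.Spec
    (CommRingCat.ofHom (φ : D →ₐ[k] MonoidAlgebra k (Multiplicative M)).toRingHom).op
  haveI : IsIso (CommRingCat.ofHom (φ : D →ₐ[k] MonoidAlgebra k (Multiplicative M)).toRingHom) :=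
    (isIso_op_iff _).1 this
  have hinj := (ConcreteCategory.bijective_of_isIso
    (CommRingCat.ofHom (φ : D →ₐ[k] MonoidAlgebra k (Multiplicative M)).toRingHom)).1
  let L : MonoidAlgebra k (Multiplicative M) →ₐc[k] MonoidAlgebra k (ULift.{u} (Multiplicative M)) :=
    (MonoidAlgebra.domCongrBialgEquiv k k (MulEquiv.ulift.{0, u} (α := Multiplicative M)).symm : _ ≃ₐc[k] _).toBialgHom
  exact Chev.span_groupLike_of_injective (L.comp φ) fun x y h =>
    hinj ((MonoidAlgebra.domCongrBialgEquiv k k (MulEquiv.ulift.{0, u} (α := Multiplicative M)).symm).injective h)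

end Groth.Agent.GrossU
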