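import Groth.Agent.GModLib.Transfer
import Groth.Agent.GModLib.Epi
import Groth.Agent.GrossU.Setup
import Mathlib.LinearAlgebra.TensorProduct.RightExactness

/-!
Rational actions on algebras through the coordinate algebra: constructions and comparison with group modules.
-/

set_option autoImplicit false
set_option backward.isDefEq.respectTransparency false
set_option maxHeartbeats 1000000
set_option synthInstance.maxHeartbeats 200000
set_option linter.style.haveILetI false
set_option linter.unusedSectionVars false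

universe u

open CategoryTheory MonoidalCategory CartesianMonoidalCategory MonObj GrpObj AlgebraicGeometry
open TensorProduct WithConv

noncomputable section

namespace Groth.Agent.GrossU

open Groth.Agent.GModLib

variable {k : Type u} [Field k] {C : Type u} [CommRing C] [HopfAlgebra k C]

section Ev

variable (A : Type u) [CommRing A] [Algebra k A]

/-- evaluation at a point -/
def ev (φ : WithConv (C →ₐ[k] k)) : A ⊗[k] C →ₐ[k] A :=
  Algebra.TensorProduct.lift (AlgHom.id k A) ((Algebra.ofId k A).comp φ.ofConv) fun _ _ => Commute.all _ _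

@[simp]
theorem ev_tmul (φ : WithConv (C →ₐ[k] k)) (a : A) (f : C) : ev A φ (a ⊗ₜ[k] f) = φ.ofConv f • a := by
  simp [ev, Algebra.ofId_apply, Algebra.smul_def, mul_comm]

theorem ev_map {A' : Type u} [CommRing A'] [Algebra k A'] (f : A →ₐ[k] A') (φ : WithConv (C →ₐ[k] k)) (x : A ⊗[k] C) :
    ev A' φ (Algebra.TensorProduct.map f (AlgHom.id k C) x) = f (ev A φ x) := by
  induction x using TensorProduct.induction_on with
  | zero => simp
  | add x y hx hy => simp only [map_add, hx, hy]
  | tmul a c => simp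

theorem ev_mapRight (g : C →ₐ[k] C) (φ : WithConv (C →ₐ[k] k)) (x : A ⊗[k] C) :
    ev A φ (Algebra.TensorProduct.map (AlgHom.id k A) g x) = ev A (toConv (φ.ofConv.comp g)) x := by
  induction x using TensorProduct.induction_on with
  | zero => simp
  | add x y hx hy => simp only [map_add, hx, hy]
  | tmul a c => simp

variable {A} [IsAlgClosed k] [Algebra.FiniteType k C] [_root_.IsReduced C]

/-- linear functionals see only the values -/
theorem ev_ext' {N : Type u} [AddCommGroup N] [Module k N] {x y : N ⊗[k] C}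
    (h : ∀ φ : WithConv (C →ₐ[k] k), TensorProduct.rid k N (φ.ofConv.toLinearMap.lTensor N x) =
      TensorProduct.rid k N (φ.ofConv.toLinearMap.lTensor N y)) : x = y := by
  classical
  let b := Module.Free.chooseBasis k N
  have hcoef : ∀ (φ : WithConv (C →ₐ[k] k)) (t : N ⊗[k] C) j,
      φ.ofConv (TensorProduct.equivFinsuppOfBasisLeft b t j) =
        b.repr (TensorProduct.rid k N (φ.ofConv.toLinearMap.lTensor N t)) j := by
    intro φ t j
    induction t using TensorProduct.induction_on with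
    | zero => simp
    | add x y hx hy => simp only [map_add, Finsupp.add_apply, hx, hy]
    | tmul a f => simp [mul_comm]
  apply (TensorProduct.equivFinsuppOfBasisLeft b).injective
  ext j
  exact ext_pt fun φ => by rw [hcoef, hcoef, h]

theorem rid_lTensor (φ : WithConv (C →ₐ[k] k)) (x : A ⊗[k] C) :
    TensorProduct.rid k A (φ.ofConv.toLinearMap.lTensor A x) = ev A φ x := by
  induction x using TensorProduct.induction_on with
  | zero => simp
  | add x y hx hy => simp only [map_add, hx, hy]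
  | tmul a f => simp

theorem ev_ext {x y : A ⊗[k] C} (h : ∀ φ, ev A φ x = ev A φ y) : x = y :=
  ev_ext' fun φ => by rw [rid_lTensor, rid_lTensor, h]

/-- tensors with all values in a subspace come from the subspace -/
theorem exists_rTensor_eq (W : Submodule k A) {x : A ⊗[k] C} (h : ∀ φ, ev A φ x ∈ W) :
    ∃ y : ↥W ⊗[k] C, W.subtype.rTensor C y = x := by
  have hex : Function.Exact (W.subtype.rTensor C) (W.mkQ.rTensor C) :=
    rTensor_exact C (LinearMap.exact_subtype_mkQ W) (Submodule.mkQ_surjective W)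
  refine (hex x).1 (ev_ext' fun φ => ?_)
  have h1 : ∀ t : A ⊗[k] C, TensorProduct.rid k (A ⧸ W) (φ.ofConv.toLinearMap.lTensor (A ⧸ W) (W.mkQ.rTensor C t)) =
      W.mkQ (ev A φ t) := by
    intro t
    induction t using TensorProduct.induction_on with
    | zero => simp
    | add x y hx hy => simp only [map_add, hx, hy]
    | tmul a f => simp
  rw [h1]
  simp only [map_zero]
  exact (Submodule.Quotient.mk_eq_zero W).2 (h φ)

end Ev

variable (k C) in
/-- a rational action by algebra endomorphisms -/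
structure Act (A : Type u) [CommRing A] [Algebra k A] where
  /-- the coaction -/
  δ : A →ₐ[k] A ⊗[k] C
  one_apply : ∀ a, ev A 1 (δ a) = a
  mul_apply : ∀ φ ψ a, ev A (φ * ψ) (δ a) = ev A φ (δ (ev A ψ (δ a)))

variable {A : Type u} [CommRing A] [Algebra k A] {A' : Type u} [CommRing A'] [Algebra k A']

/-- the endomorphism of a point -/
def Act.σ (α : Act k C A) (φ : WithConv (C →ₐ[k] k)) : A →ₐ[k] A := (ev A φ).comp α.δ

variable (α : Act k C A)

theorem Act.σ_one (a : A) : α.σ 1 a = a := α.one_apply a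

theorem Act.σ_mul (φ ψ : WithConv (C →ₐ[k] k)) (a : A) : α.σ (φ * ψ) a = α.σ φ (α.σ ψ a) := α.mul_apply φ ψ a

theorem Act.σ_inv_cancel (φ : WithConv (C →ₐ[k] k)) (a : A) : α.σ φ⁻¹ (α.σ φ a) = a := by
  rw [← α.σ_mul, inv_mul_cancel, α.σ_one]

/-- the fixed subalgebra -/
def Act.Fixed (S : Subgroup (WithConv (C →ₐ[k] k))) : Subalgebra k A where
  carrier := {a | ∀ v ∈ S, α.σ v a = a}
  mul_mem' {a b} ha hb v hv := by rw [map_mul, ha v hv, hb v hv]
  add_mem' {a b} ha hb v hv := by rw [map_add, ha v hv, hb v hv]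
  algebraMap_mem' r v _ := AlgHom.commutes _ r

/-- equivariance -/
def Act.Equi (β : Act k C A') (f : A →ₐ[k] A') : Prop := ∀ φ a, f (α.σ φ a) = β.σ φ (f a)

theorem Act.Equi.map_fixed {β : Act k C A'} {f : A →ₐ[k] A'} (hf : α.Equi β f) {S : Subgroup (WithConv (C →ₐ[k] k))}
    {a : A} (ha : a ∈ α.Fixed S) : f a ∈ β.Fixed S := fun v hv => by rw [← hf, ha v hv]

/-- stable finite dimensional subspaces -/
theorem Act.exists_stable (s : Finset A) : ∃ W : Submodule k A, W.FG ∧ (↑s : Set A) ⊆ W ∧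
    ∀ φ, ∀ w ∈ W, α.σ φ w ∈ W := by
  classical
  choose S hS using fun a : A => TensorProduct.exists_finset (α.δ a)
  let W : Submodule k A := Submodule.span k {y | ∃ a ∈ s, ∃ φ, α.σ φ a = y}
  refine ⟨W, ?_, fun a ha => Submodule.subset_span ⟨a, Finset.mem_coe.1 ha, 1, α.σ_one a⟩, fun φ w hw => ?_⟩
  · let V : Submodule k A := Submodule.span k ↑(s.biUnion fun a => (S a).image Prod.fst)
    haveI : Module.Finite k V := Module.Finite.iff_fg.2 ⟨_, rfl⟩
    have hle : W ≤ V := Submodule.span_le.2 (by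
      rintro _ ⟨a, ha, φ, rfl⟩
      show ev A φ (α.δ a) ∈ V
      rw [hS a, map_sum]
      refine Submodule.sum_mem _ fun i hi => ?_
      rw [ev_tmul]
      exact V.smul_mem _ (Submodule.subset_span (Finset.mem_coe.2
        (Finset.mem_biUnion.2 ⟨a, ha, Finset.mem_image_of_mem _ hi⟩))))
    exact Submodule.FG.of_le (Module.Finite.iff_fg.1 inferInstance : V.FG) hle
  · have : W ≤ W.comap (α.σ φ).toLinearMap := Submodule.span_le.2 (by
      rintro _ ⟨a, ha, ψ, rfl⟩
      show α.σ φ (α.σ ψ a) ∈ W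
      rw [← α.σ_mul]
      exact Submodule.subset_span ⟨a, ha, _, rfl⟩)
    exact this hw

/-- the subalgebra generated by a stable set is stable -/
theorem Act.adjoin_stable {s : Set A} (hs : ∀ φ, ∀ x ∈ s, α.σ φ x ∈ Algebra.adjoin k s)
    (φ : WithConv (C →ₐ[k] k)) {a : A} (ha : a ∈ Algebra.adjoin k s) : α.σ φ a ∈ Algebra.adjoin k s :=
  (Algebra.adjoin_le (S := (Algebra.adjoin k s).comap (α.σ φ)) (hs φ)) ha

/-- finitely generated stable subalgebras -/
theorem Act.exists_stable_subalgebra (s : Finset A) : ∃ S : Subalgebra k A, S.FG ∧ (↑s : Set A) ⊆ S ∧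
    (∀ φ, ∀ a ∈ S, α.σ φ a ∈ S) ∧
      ∀ T : Subalgebra k A, (↑s : Set A) ⊆ T → (∀ φ, ∀ a ∈ T, α.σ φ a ∈ T) → S ≤ T := by
  classical
  let gens : Set A := {y | ∃ a ∈ s, ∃ φ, α.σ φ a = y}
  refine ⟨Algebra.adjoin k gens, ?_, fun a ha => Algebra.subset_adjoin ⟨a, Finset.mem_coe.1 ha, 1, α.σ_one a⟩,
    fun φ a ha => α.adjoin_stable (fun φ x hx => ?_) φ ha, fun T hT hTσ => Algebra.adjoin_le ?_⟩
  · obtain ⟨W, ⟨t, ht⟩, hsW, hWσ⟩ := α.exists_stable s
    have h1 : gens ⊆ W := by rintro _ ⟨a, ha, φ, rfl⟩; exact hWσ φ a (hsW ha)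
    haveI : Module.Finite k W := Module.Finite.iff_fg.2 ⟨t, ht⟩
    obtain ⟨t', ht'⟩ : (Submodule.span k gens).FG :=
      Submodule.FG.of_le ⟨t, ht⟩ (Submodule.span_le.2 h1)
    refine ⟨t', ?_⟩
    rw [show Algebra.adjoin k gens = Algebra.adjoin k (↑(Submodule.span k gens) : Set A) from (Algebra.adjoin_span (R := k)).symm,
      ← ht', Algebra.adjoin_span]
  · obtain ⟨a, ha, ψ, rfl⟩ := hx
    rw [← α.σ_mul]
    exact Algebra.subset_adjoin ⟨a, ha, _, rfl⟩
  · rintro _ ⟨a, ha, φ, rfl⟩
    exact hTσ φ a (hT ha)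

variable [IsAlgClosed k] [Algebra.FiniteType k C] [_root_.IsReduced C]

theorem Act.exists_sub (S : Subalgebra k A) (hS : ∀ φ, ∀ a ∈ S, α.σ φ a ∈ S) :
    ∃ β : Act k C S, β.Equi α S.val := by
  let f : ↥S ⊗[k] C →ₐ[k] A ⊗[k] C := Algebra.TensorProduct.map S.val (AlgHom.id k C)
  have hfl : ∀ y, f y = (Subalgebra.toSubmodule S).subtype.rTensor C y := by
    intro y
    induction y using TensorProduct.induction_on with
    | zero => simp
    | add x y hx hy => simp only [map_add, hx, hy]
    | tmul a c => rfl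
  have hf : Function.Injective f := fun x y h => by
    refine Module.Flat.rTensor_preserves_injective_linearMap (M := C) (Subalgebra.toSubmodule S).subtype
      Subtype.val_injective ?_
    rw [← hfl, ← hfl, h]
  have hmem : ∀ a : S, α.δ a ∈ f.range := fun a => by
    obtain ⟨y, hy⟩ := exists_rTensor_eq (Subalgebra.toSubmodule S) (x := α.δ a) fun φ => hS φ a a.2
    exact ⟨y, (hfl y).trans hy⟩
  let δ : ↥S →ₐ[k] ↥S ⊗[k] C := (AlgEquiv.ofInjective f hf).symm.toAlgHom.comp ((α.δ.comp S.val).codRestrict f.range hmem)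
  have hδ : ∀ a, f (δ a) = α.δ a := fun a => by
    show ((AlgEquiv.ofInjective f hf) ((AlgEquiv.ofInjective f hf).symm _) : A ⊗[k] C) = _
    rw [AlgEquiv.apply_symm_apply]
    rfl
  have hev : ∀ φ (a : S), (ev S φ (δ a) : A) = α.σ φ a := fun φ a => by
    show S.val (ev S φ (δ a)) = _
    rw [← ev_map]
    show ev A φ (f (δ a)) = _
    rw [hδ]
    rfl
  refine ⟨⟨δ, fun a => Subtype.ext ?_, fun φ ψ a => Subtype.ext ?_⟩, fun φ a => hev φ a⟩
  · rw [hev, α.σ_one]
  · rw [hev, hev, hev, α.σ_mul]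

theorem Act.exists_quot (I : Ideal A) (hI : ∀ φ, ∀ a ∈ I, α.σ φ a ∈ I) :
    ∃ β : Act k C (A ⧸ I), α.Equi β (Ideal.Quotient.mkₐ k I) := by
  let g : A →ₐ[k] (A ⧸ I) ⊗[k] C := (Algebra.TensorProduct.map (Ideal.Quotient.mkₐ k I) (AlgHom.id k C)).comp α.δ
  have hg : ∀ φ a, ev (A ⧸ I) φ (g a) = Ideal.Quotient.mk I (α.σ φ a) := fun φ a => ev_map A _ φ _
  have hker : ∀ a ∈ I, g a = 0 := fun a ha => ev_ext fun φ => by
    rw [hg, map_zero, Ideal.Quotient.eq_zero_iff_mem]
    exact hI φ a ha
  let δ : A ⧸ I →ₐ[k] (A ⧸ I) ⊗[k] C := Ideal.Quotient.liftₐ I g hker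
  have hev : ∀ φ a, ev (A ⧸ I) φ (δ (Ideal.Quotient.mk I a)) = Ideal.Quotient.mk I (α.σ φ a) := hg
  refine ⟨⟨δ, fun x => ?_, fun φ ψ x => ?_⟩, fun φ a => (hev φ a).symm⟩
  · obtain ⟨a, rfl⟩ := Ideal.Quotient.mk_surjective x
    rw [hev, α.σ_one]
  · obtain ⟨a, rfl⟩ := Ideal.Quotient.mk_surjective x
    rw [hev, hev, hev, α.σ_mul]

open Polynomial in
theorem Act.exists_poly : ∃ β : Act k C A[X], ∀ φ P, β.σ φ P = P.map (α.σ φ : A →+* A) := by
  let δ : A[X] →ₐ[k] A[X] ⊗[k] C :=
    Polynomial.aevalTower ((Algebra.TensorProduct.map (Polynomial.CAlgHom : A →ₐ[k] A[X])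
      (AlgHom.id k C)).comp α.δ) ((X : A[X]) ⊗ₜ[k] (1 : C))
  have hev : ∀ φ P, ev A[X] φ (δ P) = P.map (α.σ φ : A →+* A) := by
    intro φ P
    induction P using Polynomial.induction_on' with
    | add p q hp hq => simp only [map_add, hp, hq, Polynomial.map_add]
    | monomial n a =>
      rw [← Polynomial.C_mul_X_pow_eq_monomial, map_mul, map_mul, map_pow, map_pow, Polynomial.map_mul,
        Polynomial.map_pow, Polynomial.map_X, Polynomial.map_C]
      simp only [δ, Polynomial.aevalTower_C, Polynomial.aevalTower_X, ev_tmul, map_one, one_smul]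
      congr 1
      exact ev_map A _ φ _
  refine ⟨⟨δ, fun P => ?_, fun φ ψ P => ?_⟩, hev⟩
  · rw [hev]
    ext n
    rw [Polynomial.coeff_map]
    exact α.σ_one _
  · rw [hev, hev, hev]
    ext n
    simp only [Polynomial.coeff_map]
    exact α.σ_mul φ ψ _

section GMod

variable {G H : Over (Spec (CommRingCat.of k))} [GrpObj G] [GrpObj H]
variable (e : (Spec (CommRingCat.of C)).asOver (Spec (CommRingCat.of k)) ≅ G) [IsMonHom e.hom]

/-- the comodule of an action -/
@[reducible]
def Act.comod : HopfRep.Comod k C A where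
  coact := α.δ.toLinearMap
  coassoc := by
    refine LinearMap.ext fun a => ?_
    show TensorProduct.assoc k A C C (α.δ.toLinearMap.rTensor C (α.δ a)) =
      (CoalgebraStruct.comul (R := k) (A := C)).lTensor A (α.δ a)
    apply (TensorProduct.assoc k A C C).symm.injective
    rw [LinearEquiv.symm_apply_apply]
    refine ev_ext' fun ψ => ?_
    have h1 : ∀ t : A ⊗[k] C, TensorProduct.rid k (A ⊗[k] C) (ψ.ofConv.toLinearMap.lTensor (A ⊗[k] C)
        (α.δ.toLinearMap.rTensor C t)) = α.δ (ev A ψ t) := by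
      intro t
      induction t using TensorProduct.induction_on with
      | zero => simp
      | add x y hx hy => simp only [map_add, hx, hy]
      | tmul a c => simp
    have h2 : ∀ t : A ⊗[k] C, TensorProduct.rid k (A ⊗[k] C) (ψ.ofConv.toLinearMap.lTensor (A ⊗[k] C)
        ((TensorProduct.assoc k A C C).symm ((CoalgebraStruct.comul (R := k) (A := C)).lTensor A t))) =
        Algebra.TensorProduct.map (AlgHom.id k A) (GModLib.rt ψ) t := by
      intro t
      induction t using TensorProduct.induction_on with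
      | zero => simp
      | add x y hx hy => simp only [map_add, hx, hy]
      | tmul a c =>
        rw [Algebra.TensorProduct.map_tmul, AlgHom.id_apply, LinearMap.lTensor_tmul]
        show _ = a ⊗ₜ[k] (Algebra.TensorProduct.lift (AlgHom.id k C) ((Algebra.ofId k C).comp ψ.ofConv)
          (fun _ _ => Commute.all _ _) (CoalgebraStruct.comul (R := k) c))
        generalize CoalgebraStruct.comul (R := k) c = s
        induction s using TensorProduct.induction_on with
        | zero => simp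
        | add x y hx hy => simp only [map_add, TensorProduct.tmul_add, hx, hy]
        | tmul p q =>
          simp [Algebra.ofId_apply, Algebra.smul_def]
          rw [← Algebra.smul_def, mul_comm p, ← Algebra.smul_def, TensorProduct.smul_tmul]
    rw [h1, h2]
    refine ev_ext fun φ => ?_
    rw [ev_mapRight, show toConv (φ.ofConv.comp (GModLib.rt ψ)) = φ * ψ from
      WithConv.ext (AlgHom.ext fun c => apply_rt φ ψ c), α.mul_apply]
  counit_comp := by
    refine LinearMap.ext fun a => (TensorProduct.rid k A).injective ?_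
    show TensorProduct.rid k A ((CoalgebraStruct.counit (R := k) (A := C)).lTensor A (α.δ a)) =
      TensorProduct.rid k A (a ⊗ₜ[k] 1)
    rw [TensorProduct.rid_tmul, one_smul]
    conv_rhs => rw [← α.one_apply a]
    rw [← rid_lTensor]
    congr 3

/-- the group module of an action -/
def Act.gmod : VecGrp.GMod G A :=
  letI := α.comod
  ofComod e A

theorem Act.isMult_gmod : (α.gmod e).IsMult :=
  letI := α.comod
  isMult_ofComod_of_algHom e α.δ fun _ => rfl

theorem Act.gmod_lid (φ : WithConv (C →ₐ[k] k)) (a : A) :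
    TensorProduct.lid k A ((α.gmod e).ρ k (pnt e φ.ofConv) ((1 : k) ⊗ₜ[k] a)) = α.σ φ a := by
  letI := α.comod
  show TensorProduct.lid k A ((ofComod e A).ρ k (pnt e φ.ofConv) ((1 : k) ⊗ₜ[k] a)) = _
  rw [ofComod_pnt]
  show TensorProduct.lid k A (TensorProduct.comm k A k (φ.ofConv.toLinearMap.lTensor A (α.δ a))) = ev A φ (α.δ a)
  generalize α.δ a = t
  induction t using TensorProduct.induction_on with
  | zero => simp
  | add x y hx hy => simp only [map_add, hx, hy]
  | tmul m c => simp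

/-- a multiplicative group module gives an action -/
theorem exists_act (ρ : VecGrp.GMod G A) (hρ : ρ.IsMult) : ∃ α : Act k C A, ∀ φ a,
    α.σ φ a = TensorProduct.lid k A (ρ.ρ k (pnt e φ.ofConv) ((1 : k) ⊗ₜ[k] a)) := by
  have hδ1 : coactMap e ρ 1 = 1 := by
    show TensorProduct.comm k C A (ρ.ρ C (pnt e (AlgHom.id k C)) ((1 : C) ⊗ₜ[k] (1 : A))) = _
    rw [← Algebra.TensorProduct.one_def, (hρ C _).2]
    rfl
  have hδm : ∀ a b, coactMap e ρ (a * b) = coactMap e ρ a * coactMap e ρ b := by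
    intro a b
    show Algebra.TensorProduct.comm k C A (ρ.ρ C (pnt e (AlgHom.id k C)) ((1 : C) ⊗ₜ[k] (a * b))) =
      Algebra.TensorProduct.comm k C A (ρ.ρ C (pnt e (AlgHom.id k C)) ((1 : C) ⊗ₜ[k] a)) *
        Algebra.TensorProduct.comm k C A (ρ.ρ C (pnt e (AlgHom.id k C)) ((1 : C) ⊗ₜ[k] b))
    rw [← map_mul, ← (hρ C _).1, Algebra.TensorProduct.tmul_mul_tmul, _root_.one_mul]
  let δ : A →ₐ[k] A ⊗[k] C := AlgHom.ofLinearMap (coactMap e ρ) hδ1 hδm
  have hσ : ∀ φ a, ev A φ (δ a) = TensorProduct.lid k A (ρ.ρ k (pnt e φ.ofConv) ((1 : k) ⊗ₜ[k] a)) := fun φ a => by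
    rw [rho_pnt]
    show ev A φ (coactMap e ρ a) = _
    generalize coactMap e ρ a = t
    induction t using TensorProduct.induction_on with
    | zero => simp
    | add x y hx hy => simp only [map_add, hx, hy]
    | tmul m c => simp [VecGrp.Wmap_tmul]
  refine ⟨⟨δ, fun a => ?_, fun φ ψ a => ?_⟩, hσ⟩
  · rw [hσ, pnt_one, map_one]
    simp
  · rw [hσ, hσ, hσ, show (φ * ψ).ofConv = (toConv φ.ofConv * toConv ψ.ofConv).ofConv from rfl, pnt_mul, map_mul,
      LinearEquiv.mul_apply]
    congr 1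
    generalize ρ.ρ k (pnt e ψ.ofConv) ((1 : k) ⊗ₜ[k] a) = t
    congr 1
    exact ((TensorProduct.lid k A).symm_apply_apply t).symm

/-- fixed vectors are determined on rational points -/
theorem mem_fixedUnder_iff_pts [IsAffine H.left] [Smooth H.hom] (i : H ⟶ G) [IsMonHom i]
    {M : Type u} [AddCommGroup M] [Module k M] (ρ : VecGrp.GMod G M) (a : M) :
    a ∈ ρ.fixedUnder i ↔ ∀ v ∈ pts e i, TensorProduct.lid k M (ρ.ρ k (pnt e v.ofConv) ((1 : k) ⊗ₜ[k] a)) = a := by
  constructor
  · rintro ha v ⟨h, hh⟩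
    rw [← hh, ha k h, TensorProduct.lid_tmul, one_smul]
  · intro ha
    obtain ⟨D, _, e', he'⟩ := FinHopf.exists_hopf (R := CommRingCat.of k) H
    haveI := he'
    haveI : Algebra.FiniteType k D := finiteType_of_smooth e'
    haveI : _root_.IsReduced D := isReduced_of_smooth e'
    refine (mem_fixedUnder_iff e' ρ a).2 fun ψ => ?_
    obtain ⟨φ, hφ⟩ := exists_eq_pnt e (pnt e' ψ ≫ i)
    have h1 := ha (toConv φ) ⟨_, hφ.symm⟩
    apply (TensorProduct.lid k M).injective
    rw [← hφ, TensorProduct.lid_tmul, one_smul]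
    exact h1

theorem mem_fixedUnder_iff_act [IsAffine H.left] [Smooth H.hom] (i : H ⟶ G) [IsMonHom i] (ρ : VecGrp.GMod G A)
    (hσ : ∀ φ a, α.σ φ a = TensorProduct.lid k A (ρ.ρ k (pnt e φ.ofConv) ((1 : k) ⊗ₜ[k] a))) (a : A) :
    a ∈ ρ.fixedUnder i ↔ a ∈ α.Fixed (pts e i) := by
  rw [mem_fixedUnder_iff_pts e i ρ a]
  exact forall₂_congr fun v _ => by rw [hσ]

end GMod

end Groth.Agent.GrossU
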