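import Groth.Agent.GrossU.Setup
import Groth.Agent.RootBase.BorelUnip
import Groth.Agent.RootBase.SymMain
import Groth.Agent.RootSys.Datum
import Groth.Agent.RootBase.IsoSplit
import Groth.Agent.Chev.MaxTori
import Groth.Agent.Chev.CentDense
import Groth.Agent.Chev.BorelTheory
import Groth.Agent.S16183
import Groth.Agent.RedQuotAff.Fibration
import Groth.Agent.GeomProp.BaseChange
import Groth.Agent.S9829
import Groth.Agent.TorScheme.System

/-!
Finite generation of `k[G]^U` for connected reductive `G`.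
-/

set_option autoImplicit false
set_option backward.isDefEq.respectTransparency false
set_option maxHeartbeats 4000000
set_option synthInstance.maxHeartbeats 400000
set_option linter.style.haveILetI false
set_option linter.unusedSectionVars false

universe u

open CategoryTheory Limits MonoidalCategory CartesianMonoidalCategory MonObj GrpObj AlgebraicGeometry
open WithConv
open scoped CategoryTheory.Obj

noncomputable section

namespace Groth.Agent.GrossU

open Groth.Agent.GModLib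

variable {k : Type u} [Field k] [IsAlgClosed k]

/-- smooth algebras which are domains are integrally closed -/
theorem isIntegrallyClosed_of_smooth' {C : Type u} [CommRing C] [Algebra k C] [Algebra.Smooth k C] [IsDomain C] :
    IsIntegrallyClosed C := by
  haveI : IsRegularRing C := GeomProp.isRegularRing_of_smooth k C
  exact IsIntegrallyClosed.of_localization_maximal fun p _ hpm => by
    haveI := hpm.isPrime
    exact S9829.result (Localization.AtPrime p)

variable {G Bo U : Over (Spec (CommRingCat.of k))} [GrpObj G] [GrpObj Bo] [GrpObj U]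

/-- data of a split torus inside a given Borel subgroup -/
theorem exists_split_in_borel (hG : Red.IsReductiveOver k G) (iB : Bo ⟶ G) (hB : Red.IsBorelOver k iB) :
    ∃ (D : Red.SplitRed G) (tB : D.T ⟶ Bo), tB ≫ iB = D.i := by
  obtain ⟨hGa, hGs, hGc, -⟩ := id hG
  haveI := hGa; haveI := hGs; haveI := hGc
  have hred := RootBase.isReductive_of_over hG
  obtain ⟨T, B₁, hgT, hgB₁, t₁, b₁, htm, htc, hb₁, hmax, -⟩ := Chev.Borel.exists_maxTorus G
  haveI := htm; haveI := hb₁.1; haveI := hB.1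
  obtain ⟨g, f, hf⟩ := Chev.Borel.borel_conj b₁ iB hb₁ hB
  obtain ⟨iT, hiT⟩ : ∃ iT : T ⟶ G, iT = AGF.conjBy g (t₁ ≫ b₁) := ⟨_, rfl⟩
  have hT : Red.IsMaximalTorus iT :=
    hiT ▸ Chev.Borel.isMaximalTorus_of_isMaxTorus _ (Chev.Borel.isMaxTorus_conjBy g _ hmax)
  have htB : (t₁ ≫ f.hom) ≫ iB = iT := by
    rw [Category.assoc, hf, Chev.Borel.comp_conjBy', hiT]
  obtain ⟨r, ⟨E⟩⟩ := Chev.Borel.split_of_isTorus hT.2.2.1
  obtain ⟨D, hDT, hDi⟩ := RootSys.exists_splitRed hred hT E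
  subst hDT
  obtain rfl := eq_of_heq hDi
  exact ⟨D, t₁ ≫ f.hom, htB⟩

set_option maxHeartbeats 8000000 in
/-- **`k[G]^U` is finitely generated, connected reductive case** -/
theorem exists_finset_inv_connected (hG : Red.IsReductiveOver k G) (iB : Bo ⟶ G) [IsMonHom iB]
    (hB : Red.IsBorelOver k iB) (uB : U ⟶ Bo) [IsMonHom uB] (hU : Par.IsUnipotentRadical uB)
    {C : Type u} [CommRing C] [HopfAlgebra k C]
    (e : (Spec (CommRingCat.of C)).asOver (Spec (CommRingCat.of k)) ≅ G) [IsMonHom e.hom] :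
    ∃ s : Finset C, (↑s : Set C) ⊆ GModLib.Inv (pts e (uB ≫ iB)) ∧
      GModLib.Inv (pts e (uB ≫ iB)) ≤ Algebra.adjoin k (↑s : Set C) := by
  classical
  let S := Spec (CommRingCat.of k)
  obtain ⟨hGa, hGs, hGc, -⟩ := id hG
  haveI := hGa; haveI := hGs; haveI := hGc
  haveI : IsAffineHom G.hom := isAffineHom_of_isAffine _
  have hred := RootBase.isReductive_of_over hG
  haveI : Algebra.FiniteType k C := finiteType_of_smooth e
  haveI : _root_.IsReduced C := GModLib.isReduced_of_smooth e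
  haveI : IsDomain C := Chev.Borel.isDomain_of_smooth_connected e
  haveI : IsIso e.hom.left := inferInstanceAs (IsIso ((Over.forget _).map e.hom))
  haveI : Smooth (Spec.map (CommRingCat.ofHom (algebraMap k C))) := by
    rw [show Spec.map (CommRingCat.ofHom (algebraMap k C)) = e.hom.left ≫ G.hom from (Over.w e.hom).symm]
    exact MorphismProperty.comp_mem _ _ _ inferInstance inferInstance
  haveI : Algebra.Smooth k C := RingHom.smooth_algebraMap.1 ((HasRingHomProperty.Spec_iff (P := @Smooth)).1 ‹_›)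
  haveI : IsIntegrallyClosed C := isIntegrallyClosed_of_smooth' (k := k)
  obtain ⟨hBm, hBc, hBs, hBconn, hBsol, -⟩ := id hB
  haveI := hBc; haveI := hBs; haveI := hBconn
  haveI : Mono iB := GrpField.SchImg.mono_of_isClosedImmersion iB
  have hB' : Red.IsBorel iB := ⟨hBm, hBc, hBs, fun s => by
    haveI := Chev.Borel.isIso_geomPt k s
    exact BPair.isBorelOver_bc_iso (Red.geomPt s) iB hB⟩
  obtain ⟨huim, hUa, hUs, hUcn, hUno⟩ := props_of_borel hB hU
  haveI := huim; haveI := hUa; haveI := hUs; haveI := hUcn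
  haveI : IsClosedImmersion uB.left := hU.2.1
  haveI : IsClosedImmersion (uB ≫ iB).left := inferInstanceAs (IsClosedImmersion (uB.left ≫ iB.left))
  obtain ⟨Dt, tB, htB⟩ := exists_split_in_borel hG iB hB
  letI := Dt.grpT; letI := Dt.acgM; letI := Dt.fintypeIdx; letI := Dt.finiteM; letI := Dt.freeM
  obtain ⟨mu, hmu, hP, -, hψ⟩ := RootBase.exists_borel_radical Dt iB hB' tB htB uB hU
  obtain ⟨c, hc, F⟩ : ∃ c : Red.DS S Dt.M ⟶ G, Dt.split.inv.hom.hom ≫ Dt.i = c ∧
      RootBase.Frame c Dt.P.root Dt.u := ⟨_, rfl, RootBase.frame_of_splitRed Dt⟩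
  haveI := F.hc.1
  have hPc : DynPar.IsP (Red.DSmap S mu ≫ c) iB := hc ▸ hP
  obtain ⟨n, en, -, hn⟩ := RootBase.exists_extend {a | 0 < (-mu) (Dt.P.root a)} (Fin.elim0 : Fin 0 → Dt.idx)
    (fun x => x.elim0) fun l => l.elim0
  obtain ⟨m, ep, -, hm⟩ := RootBase.exists_extend {a | 0 < mu (Dt.P.root a)} (Fin.elim0 : Fin 0 → Dt.idx)
    (fun x => x.elim0) fun l => l.elim0
  set en' := Fin.append Fin.elim0 en with hen'
  set ep' := Fin.append Fin.elim0 ep with hep'
  haveI hcell := (F.cell mu hmu en' en' ep' ep' hn hm hn hm).1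
  obtain ⟨φ, hφ⟩ := F.exists_iso_isP mu hmu ep' hm hPc
  obtain ⟨ψ, hψ'⟩ := hψ ep' hm
  let jn : RedSub.pow (Red.Ga S) (0 + n) ⟶ G := RedSub.prodMap (Red.Ga S) (0 + n) fun l => Dt.u (en' l)
  -- the opposite group
  obtain ⟨P₀, _, p₀, hP₀⟩ := DynPar.exists_isP (G := G) (c := Red.DSmap S (-mu) ≫ c)
  obtain ⟨U₀, _, u₀, hU₀⟩ := DynPar.exists_isU (G := G) (Red.DSmap S (-mu) ≫ c)
  obtain ⟨Z, _, z, hz, -, -⟩ := DynPar.exists_centralizer_DS (G := G) inferInstance inferInstance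
    (Red.DSmap S (-mu) ≫ c)
  haveI := hU₀.1; haveI := hU₀.2.1
  haveI : IsAffine U₀.left := isAffine_of_isAffineHom u₀.left
  haveI : Smooth U₀.hom := (DynPar.smooth_isU inferInstance hP₀ hU₀ hz).1
  obtain ⟨hU₀c, hU₀no⟩ : ConnectedSpace U₀.left ∧ Red.HasNoSubtorus k U₀ := by
    obtain ⟨-, h1, -, h2⟩ := DynPar.geom_fibre (G := G) inferInstance (fun t => (hred.2.2 t).2.2.1) hP₀ hU₀ hz
      (IsLocalRing.closedPoint k)
    exact (UniRad.geomFibre_unipotent_iff U₀ _).1 ⟨h1, h2⟩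
  obtain ⟨w, hw⟩ := hU₀.exists_le jn fun B _ f x =>
    RootBase.prodMap_mem_USub_global (-mu) f (fun l => F.hu (en' l)) (fun l => hn.2.subset ⟨l, rfl⟩) x
  haveI : Mono uB := GrpField.SchImg.mono_of_isClosedImmersion uB
  -- the cell as slice and Borel subgroup
  have hcellB : (fst _ Bo ≫ jn) * (snd _ Bo ≫ iB) = (_ ◁ φ.inv) ≫
      RootBase.cellC c (fun l => Dt.u (en' l)) (fun l => Dt.u (ep' l)) := by
    have h1 : iB = φ.inv ≫ RootBase.borelC c (fun l => Dt.u (ep' l)) := by rw [← hφ, Iso.inv_hom_id_assoc]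
    rw [RootBase.cellC, MonObj.comp_mul, MonObj.comp_mul, whiskerLeft_fst_assoc, whiskerLeft_snd_assoc,
      whiskerLeft_snd_assoc, h1, RootBase.borelC, MonObj.comp_mul, MonObj.comp_mul]
  have hopen : IsOpenImmersion ((fst _ Bo ≫ jn) * (snd _ Bo ≫ iB)).left := by
    rw [hcellB, Over.comp_left]
    haveI : IsIso ((RedSub.pow (Red.Ga S) (0 + n)) ◁ φ.inv).left :=
      inferInstanceAs (IsIso ((Over.forget _).map ((RedSub.pow (Red.Ga S) (0 + n)) ◁ φ.inv)))
    infer_instance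
  obtain ⟨y0, hy0, -⟩ := RootBase.exists_pow_prod (G := G) (fun l => Dt.u (en' l))
    (X := 𝟙_ (Over S)) fun _ => 1
  have hv₀ : y0 ≫ jn = 1 := RootBase.prodMap_one _ (fun l => (F.hu _).1) y0 hy0
  -- the homogeneous space
  obtain ⟨B₀, hgB₀, b₀, hb₀, X, a, o, hX, hXp⟩ := Chev.Borel.exists_borel_proper G
  haveI := hXp; haveI := hb₀.1
  obtain ⟨g₀, f₀, hf₀⟩ := Chev.Borel.borel_conj b₀ iB hb₀ hB
  haveI := hX.2.1; haveI := hX.2.2.1
  let T : G ⟶ G := 𝟙 G * (toUnit G ≫ g₀)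
  haveI : IsIso T := by
    refine ⟨𝟙 G * (toUnit G ≫ g₀⁻¹), ?_, ?_⟩ <;>
      simp only [T, MonObj.comp_mul, Category.comp_id, ← Category.assoc, toUnit_unique (_ ≫ toUnit G) (toUnit G)] <;>
      rw [_root_.mul_assoc, GrpObj.comp_inv] <;> simp
  haveI : IsIso T.left := inferInstanceAs (IsIso ((Over.forget _).map T))
  let π : G ⟶ X := T ≫ a.orbitMap o
  haveI : Flat π.left := inferInstanceAs (Flat (T.left ≫ (a.orbitMap o).left))
  haveI : Surjective π.left := inferInstanceAs (Surjective (T.left ≫ (a.orbitMap o).left))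
  have hπc : ∀ {X' : Over S} (x : X' ⟶ G), x ≫ π = (x * (toUnit X' ≫ g₀)) ≫ a.orbitMap o := fun {X'} x => by
    simp only [π, T, ← Category.assoc, MonObj.comp_mul, Category.comp_id, toUnit_unique (x ≫ toUnit G) (toUnit X')]
  have hbf : ∀ {X' : Over S} (b : X' ⟶ Bo),
      b ≫ iB = (toUnit X' ≫ g₀) * ((b ≫ f₀.inv) ≫ b₀) * (toUnit X' ≫ g₀)⁻¹ := fun {X'} b => by
    rw [← Chev.Borel.comp_conjBy, ← hf₀, Category.assoc, Iso.inv_hom_id_assoc]
  have hπ : ∀ (X' : Over S) (x y : X' ⟶ G), x ≫ π = y ≫ π ↔ ∃ b, y = x * (b ≫ iB) := by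
    intro X' x y
    rw [hπc, hπc]
    constructor
    · intro h
      obtain ⟨b, hb⟩ := RedQuotAff.exists_eq_mul hX.2.2.2 _ _ h
      refine ⟨b ≫ f₀.hom, ?_⟩
      rw [hbf, Category.assoc b, Iso.hom_inv_id, Category.comp_id,
        eq_mul_inv_of_mul_eq hb]
      group
    · rintro ⟨b, rfl⟩
      rw [hbf, show x * ((toUnit X' ≫ g₀) * ((b ≫ f₀.inv) ≫ b₀) * (toUnit X' ≫ g₀)⁻¹) * (toUnit X' ≫ g₀) =
        x * (toUnit X' ≫ g₀) * ((b ≫ f₀.inv) ≫ b₀) by group]
      exact (RedQuotAff.mul_orbit_inv hX.2.2.2.w _ _).symm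
  -- coordinates
  obtain ⟨DB, _, _, _, _, eB, _, πB, hπB, hSGB⟩ := exists_coordinates e iB
  haveI := Dt.maximalTorus.1; haveI := Dt.maximalTorus.2.1
  haveI : Smooth Dt.T.hom := Chev.smooth_of_isTorus Dt.maximalTorus.2.2.1
  haveI : IsClosedImmersion Dt.i.left := TorScheme.isClosedImmersion_torus Dt.maximalTorus.2.2.1 Dt.i
  obtain ⟨DT, _, _, _, _, eT, _, πT, -, hSGT⟩ := exists_coordinates e Dt.i
  have hpt : ∀ {H : Over S} [GrpObj H] (i : H ⟶ G) [IsMonHom i] (h : VecGrp.pt k k ⟶ H),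
      ∃ φ' ∈ pts e i, h ≫ i = pnt e φ'.ofConv := fun {H} _ i _ h => by
    obtain ⟨φ', hφ'⟩ := exists_eq_pnt e (h ≫ i)
    exact ⟨toConv φ', ⟨h, hφ'.symm⟩, hφ'.symm⟩
  have hmul : ∀ {a b p : WithConv (C →ₐ[k] k)}, pnt e a.ofConv * pnt e b.ofConv = pnt e p.ofConv → a * b = p :=
    fun {a b p} h => WithConv.ext (pnt_injective e (by
      show pnt e _ = pnt e _
      rw [← h, ← pnt_mul, toConv_ofConv, toConv_ofConv]))
  have hUB : pts e (uB ≫ iB) ≤ SG πB := by
    rw [hSGB]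
    rintro _ ⟨h, hh⟩
    exact ⟨h ≫ uB, by rw [Category.assoc, hh]⟩
  refine exists_finset_inv πB (pts e (uB ≫ iB)) (pts e u₀) hUB ?_ ?_ (exists_lt_fixed e u₀ hU₀no) ?_ ?_
  · -- characters of the radical
    intro s hs b hb
    have hs0 : s ≠ 0 := fun h => by simpa [h] using hs.1
    have hrt : ∀ v ∈ pts e (uB ≫ iB), GModLib.rt v s = v.ofConv s • s := fun v hv =>
      ext_pt (k := k) fun x => by rw [apply_rt, hs.2.2 x v (hUB hv), map_smul, smul_eq_mul, mul_comm]
    obtain ⟨w', hw', hw'0, hfix⟩ := exists_rt_fixed e (uB ≫ iB) hUno (k ∙ s) (fun v hv x hx => by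
      obtain ⟨r, rfl⟩ := Submodule.mem_span_singleton.1 hx
      rw [map_smul, hrt v hv]
      exact Submodule.smul_mem _ _ (Submodule.smul_mem _ _ (Submodule.mem_span_singleton_self s)))
      (by simpa using hs0)
    obtain ⟨r, rfl⟩ := Submodule.mem_span_singleton.1 hw'
    have hr : r ≠ 0 := fun h => hw'0 (by rw [h, zero_smul])
    have h := hfix b hb
    rw [map_smul, hrt b hb] at h
    have h2 := smul_right_injective C hr h
    exact smul_left_injective k hs0 (h2.trans (one_smul k s).symm)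
  · -- density
    intro f hf
    haveI : LocallyOfFiniteType (RedSub.pow (Red.Ga S) (0 + n) ⊗ (Red.DS S Dt.M ⊗ RedSub.pow (Red.Ga S) (0 + m))).hom := by
      rw [← Over.w (RootBase.cellC c (fun l => Dt.u (en' l)) (fun l => Dt.u (ep' l)))]; infer_instance
    obtain ⟨y1, -, -⟩ := RootBase.exists_pow_prod (G := G) (fun l => Dt.u (ep' l)) (X := 𝟙_ (Over S)) fun _ => 1
    haveI : Nonempty (RedSub.pow (Red.Ga S) (0 + n) ⊗ (Red.DS S Dt.M ⊗ RedSub.pow (Red.Ga S) (0 + m))).left :=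
      ⟨(lift y0 (lift (1 : 𝟙_ (Over S) ⟶ Red.DS S Dt.M) y1)).left (IsLocalRing.closedPoint k)⟩
    refine eq_zero_of_open e (RootBase.cellC c (fun l => Dt.u (en' l)) (fun l => Dt.u (ep' l))) f ?_
    rintro φ' ⟨x, hx⟩
    obtain ⟨v, hv, hveq⟩ := hpt u₀ ((x ≫ fst _ _) ≫ w)
    obtain ⟨b, hb, hbeq⟩ := hpt iB ((x ≫ snd _ _) ≫ φ.hom)
    have heq : v * b = φ' := hmul (by
      rw [← hveq, ← hbeq, ← hx, Category.assoc _ w, hw, Category.assoc _ φ.hom, hφ, RootBase.cellC, RootBase.borelC]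
      simp only [MonObj.comp_mul, Category.assoc, jn])
    rw [← heq]
    exact hf v hv b (hSGB ▸ hb)
  · -- weights
    intro f hf
    have hnorm : ∀ t ∈ SG πT, ∀ u' ∈ pts e (uB ≫ iB), t⁻¹ * u' * t ∈ pts e (uB ≫ iB) := by
      intro t ht u' hu'
      rw [hSGT] at ht
      obtain ⟨x, hx⟩ := ht
      obtain ⟨y, hy⟩ := hu'
      obtain ⟨y', hy'⟩ := hU.2.2.1 _ (x ≫ tB)⁻¹ y
      refine ⟨y', ?_⟩
      have h2 := congrArg (fun z => z ≫ iB) hy'
      simp only [MonObj.mul_comp, GrpObj.inv_comp, Category.assoc, htB, _root_.inv_inv] at h2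
      rw [← h2, hx, hy]
      have hinv : (pnt e t.ofConv)⁻¹ = pnt e (t⁻¹).ofConv := inv_eq_of_mul_eq_one_right (by
        rw [← pnt_mul, toConv_ofConv, toConv_ofConv, mul_inv_cancel, pnt_one])
      rw [hinv, ← pnt_mul, ← pnt_mul, toConv_ofConv, toConv_ofConv, toConv_ofConv]
    refine Submodule.span_mono ?_ (mem_span_eigen πT (span_groupLike_torus Dt.split eT) _ hnorm hf)
    rintro g ⟨hg, hgt⟩
    refine ⟨hg, fun b hb => ?_⟩
    rw [hSGB] at hb
    obtain ⟨h, hh⟩ := hb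
    obtain ⟨t, ht, hteq⟩ := hpt Dt.i (((h ≫ φ.inv) ≫ fst _ _) ≫ Dt.split.inv.hom.hom)
    obtain ⟨v, hv, hveq⟩ := hpt (uB ≫ iB) (((h ≫ φ.inv) ≫ snd _ _) ≫ ψ.hom)
    have htv : t * v = b := hmul (by
      rw [← hteq, ← hveq, ← hh, Category.assoc _ _ Dt.i, hc, Category.assoc _ ψ.hom, hψ']
      conv_rhs => rw [← Category.comp_id h, ← φ.inv_hom_id, Category.assoc, Category.assoc, hφ, RootBase.borelC]
      simp only [MonObj.comp_mul, Category.assoc]
      rfl)
    obtain ⟨r, hr⟩ := hgt t (hSGT ▸ ht)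
    exact ⟨r, by rw [← htv, rt_mul_apply, hg v hv, hr]⟩
  · -- valuations
    intro V hk
    obtain ⟨g, b, hgV, hgb⟩ := exists_integral_mul iB π hπ jn hopen y0 hv₀ e
      (IsScalarTower.toAlgHom k C (FractionRing C)) V hk
    obtain ⟨χ, rfl⟩ := exists_eq_pnt eB b
    refine ⟨g, χ.comp (πB : C →ₐ[k] DB), hgV, fun x y hxy => ?_⟩
    rw [hπB, ← pnt_mul] at hgb
    have h := AlgHom.congr_fun (pnt_injective e hgb) x
    rw [Semi.valued hxy] at h
    exact h

end Groth.Agent.GrossU
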