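import Groth.Agent.GrossU.Monoid
import Groth.Agent.GModLib.ObsCrit
import Groth.Agent.GmDD.Restrict
import Groth.Agent.FieldFG.Basic
import Groth.Agent.N2Field.Basic

/-!
Finite generation of the invariants of a maximal unipotent subgroup: the algebraic core.
-/

set_option autoImplicit false
set_option backward.isDefEq.respectTransparency false
set_option maxHeartbeats 2000000
set_option synthInstance.maxHeartbeats 200000
set_option linter.style.haveILetI false
set_option linter.unusedSectionVars false

universe u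

open TensorProduct WithConv AlgebraicGeometry

noncomputable section

namespace Groth.Agent.GrossU

open Groth.Agent.GModLib

variable {k : Type u} [Field k] [IsAlgClosed k] {C : Type u} [CommRing C] [HopfAlgebra k C] [Algebra.FiniteType k C]
  [_root_.IsReduced C]

/-- `x` is semi-invariant under `BB` with the multiplier `y` -/
def Semi (BB : Subgroup (WithConv (C →ₐ[k] k))) (x y : C) : Prop :=
  ∀ g, ∀ b ∈ BB, (g * b).ofConv x = g.ofConv x * b.ofConv y

theorem Semi.mul {BB : Subgroup (WithConv (C →ₐ[k] k))} {x y x' y' : C} (h : Semi BB x y) (h' : Semi BB x' y') :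
    Semi BB (x * x') (y * y') := fun g b hb => by
  rw [map_mul, map_mul, map_mul, h g b hb, h' g b hb, mul_mul_mul_comm]

theorem Semi.lt {BB : Subgroup (WithConv (C →ₐ[k] k))} {x y : C} (h : Semi BB x y)
    (a : WithConv (C →ₐ[k] k)) : Semi BB (GModLib.lt a x) y := fun g b hb => by
  rw [apply_lt, apply_lt, ← _root_.mul_assoc, h _ b hb]

theorem semi_one (BB : Subgroup (WithConv (C →ₐ[k] k))) : Semi BB (1 : C) 1 := fun g b _ => by simp

/-- translates span a finite space -/
theorem fg_span_translates (s : C) :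
    (Submodule.span k (Set.range fun h : WithConv (C →ₐ[k] k) => GModLib.lt h s)).FG := by
  classical
  obtain ⟨S, hS⟩ := TensorProduct.exists_finset (CoalgebraStruct.comul (R := k) s)
  let W : Submodule k C := Submodule.span k ↑(S.image Prod.snd)
  haveI : Module.Finite k W := Module.Finite.iff_fg.2 ⟨S.image Prod.snd, rfl⟩
  haveI : IsNoetherian k W := inferInstance
  have hle : Submodule.span k (Set.range fun h : WithConv (C →ₐ[k] k) => GModLib.lt h s) ≤ W := by
    refine Submodule.span_le.2 ?_
    rintro _ ⟨h, rfl⟩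
    show Algebra.TensorProduct.lift ((Algebra.ofId k C).comp h.ofConv) (AlgHom.id k C) (fun _ _ => Commute.all _ _)
      (CoalgebraStruct.comul (R := k) s) ∈ W
    rw [hS, map_sum]
    refine Submodule.sum_mem _ fun i hi => ?_
    simp only [Algebra.TensorProduct.lift_tmul, AlgHom.comp_apply, Algebra.ofId_apply, AlgHom.id_apply,
      ← Algebra.smul_def]
    exact W.smul_mem _ (Submodule.subset_span (Finset.mem_coe.2 (Finset.mem_image_of_mem _ hi)))
  exact Submodule.FG.of_le (Module.Finite.iff_fg.1 inferInstance : W.FG) hle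

/-- a rational point in a closed subset avoiding nothing -/
theorem exists_pt_of_prime (P : Ideal C) [P.IsPrime] :
    ∃ φ : WithConv (C →ₐ[k] k), ∀ x ∈ P, φ.ofConv x = 0 := by
  obtain ⟨m, hm, hPm⟩ := P.exists_le_maximal (Ideal.IsPrime.ne_top inferInstance)
  letI : Field (C ⧸ m) := Ideal.Quotient.field m
  haveI : Algebra.FiniteType k (C ⧸ m) :=
    Algebra.FiniteType.of_surjective (Ideal.Quotient.mkₐ k m) Ideal.Quotient.mk_surjective
  haveI : Module.Finite k (C ⧸ m) := finite_of_finite_type_of_isJacobsonRing k _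
  haveI : Algebra.IsAlgebraic k (C ⧸ m) := Algebra.IsAlgebraic.of_finite k _
  let e := AlgEquiv.ofBijective (Algebra.ofId k (C ⧸ m)) IsAlgClosed.algebraMap_bijective_of_isIntegral
  refine ⟨toConv (e.symm.toAlgHom.comp (Ideal.Quotient.mkₐ k m)), fun x hx => ?_⟩
  show e.symm (Ideal.Quotient.mk m x) = 0
  rw [Ideal.Quotient.eq_zero_iff_mem.2 (hPm hx), map_zero]

variable {D : Type u} [CommRing D] [HopfAlgebra k D] [Algebra.FiniteType k D] [_root_.IsReduced D]

/-- the lowest semi-invariant functions -/
def lowMonoid (BB UM : Subgroup (WithConv (C →ₐ[k] k))) : Submonoid C where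
  carrier := {s | (1 : WithConv (C →ₐ[k] k)).ofConv s = 1 ∧ (∀ v ∈ UM, GModLib.lt v s = s) ∧ Semi BB s s}
  one_mem' := ⟨map_one _, fun v _ => map_one _, semi_one BB⟩
  mul_mem' {a b} ha hb := ⟨by rw [map_mul, ha.1, hb.1, _root_.one_mul],
    fun v hv => by rw [map_mul, ha.2.1 v hv, hb.2.1 v hv], ha.2.2.mul hb.2.2⟩

variable [IsDomain C] [IsIntegrallyClosed C]

theorem fg_lowMonoid (πB : C →ₐc[k] D) (UM : Subgroup (WithConv (C →ₐ[k] k)))
    (hdens : ∀ f : C, (∀ v ∈ UM, ∀ b ∈ SG πB, (v * b).ofConv f = 0) → f = 0) :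
    ∃ s : Finset C, (↑s : Set C) ⊆ lowMonoid (SG πB) UM ∧
      lowMonoid (SG πB) UM ≤ Submonoid.closure (↑s : Set C) := by
  classical
  haveI : IsNoetherianRing C := Algebra.FiniteType.isNoetherianRing k C
  haveI : IsNoetherianRing D := Algebra.FiniteType.isNoetherianRing k D
  haveI : Group.FG (GroupLike k D) := GmDD.fg_groupLike
  have hone : ∀ (ψ : WithConv (D →ₐ[k] k)) (x : C), ψ.ofConv ((πB : C →ₐ[k] D) x) = (resPt πB ψ).ofConv x :=
    fun _ _ => rfl
  have hgl : ∀ s : lowMonoid (SG πB) UM, IsGroupLikeElem k ((πB : C →ₐ[k] D) (s : C)) := fun s =>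
    isGroupLike_of_mul (k := k) (by rw [hone, map_one, s.2.1]) fun x y => by
      rw [hone, hone, hone, map_mul, s.2.2.2 _ _ ⟨y, rfl⟩]
  let φ : lowMonoid (SG πB) UM →* GroupLike k D :=
    { toFun := fun s => ⟨(πB : C →ₐ[k] D) (s : C), hgl s⟩
      map_one' := GroupLike.ext (by simp)
      map_mul' := fun a b => GroupLike.ext (by simp) }
  have hsv : ∀ (s : lowMonoid (SG πB) UM) v, v ∈ UM → ∀ b, (v * b).ofConv (s : C) = b.ofConv (s : C) :=
    fun s v hv b => by rw [← apply_lt, s.2.2.1 v hv]
  refine fg_of_saturated (lowMonoid (SG πB) UM) (fun h => by simpa using h.1) (fun a x ha hax => ?_) φ ?_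
  · have ha0 : a ≠ 0 := fun e => by simpa [e] using ha.1
    have hx1 : (1 : WithConv (C →ₐ[k] k)).ofConv x = 1 := by
      have h := hax.1
      rwa [map_mul, ha.1, _root_.one_mul] at h
    have haB : ∀ b ∈ SG πB, b.ofConv a ≠ 0 := fun b hb e => by
      have h := ha.2.2 b⁻¹ b hb
      rw [inv_mul_cancel, ha.1, e, mul_zero] at h
      exact one_ne_zero h
    refine ⟨hx1, fun v hv => ?_, fun g b hb => ?_⟩
    · have h := hax.2.1 v hv
      rw [map_mul, ha.2.1 v hv] at h
      exact mul_left_cancel₀ ha0 h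
    · have h1 : GModLib.rt b (a * x) = (b.ofConv a * b.ofConv x) • (a * x) := ext_pt fun z => by
        rw [apply_rt, hax.2.2 z b hb, map_smul, smul_eq_mul, map_mul b.ofConv, mul_comm]
      have h2 : GModLib.rt b a = b.ofConv a • a := ext_pt fun z => by
        rw [apply_rt, ha.2.2 z b hb, map_smul, smul_eq_mul, mul_comm]
      rw [map_mul, h2, smul_mul_assoc, mul_smul] at h1
      have h3 := smul_right_injective C (haB b hb) h1
      rw [← mul_smul_comm] at h3
      rw [← apply_rt, mul_left_cancel₀ ha0 h3, map_smul, smul_eq_mul, mul_comm]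
  · intro s t hst
    refine Subtype.ext (sub_eq_zero.1 (hdens _ fun v hv b hb => ?_))
    obtain ⟨ψ, rfl⟩ := hb
    rw [map_sub, hsv s v hv, hsv t v hv, ← hone, ← hone]
    rw [show (πB : C →ₐ[k] D) (s : C) = (φ s).val from rfl, hst]
    exact sub_self _

/-- **finite generation of the invariants**: the core -/
theorem exists_finset_inv (πB : C →ₐc[k] D) (UP UM : Subgroup (WithConv (C →ₐ[k] k)))
    (hUB : UP ≤ SG πB)
    (hchar : ∀ s ∈ lowMonoid (SG πB) UM, ∀ b ∈ UP, b.ofConv s = 1)
    (hdens : ∀ f : C, (∀ v ∈ UM, ∀ b ∈ SG πB, (v * b).ofConv f = 0) → f = 0)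
    (hfix : ∀ W : Submodule k C, (∀ v ∈ UM, ∀ w ∈ W, GModLib.lt v w ∈ W) → W ≠ ⊥ →
      ∃ w ∈ W, w ≠ 0 ∧ ∀ v ∈ UM, GModLib.lt v w = w)
    (hdec : ∀ f ∈ GModLib.Inv UP, f ∈ Submodule.span k {g : C | g ∈ GModLib.Inv UP ∧ ∀ b ∈ SG πB, ∃ a : k, GModLib.rt b g = a • g})
    (hval : ∀ V : ValuationSubring (FractionRing C), (∀ c : k, algebraMap k (FractionRing C) c ∈ V) →
      ∃ g b : C →ₐ[k] FractionRing C, (∀ c, g c ∈ V) ∧
        ∀ x y, Semi (SG πB) x y → algebraMap C (FractionRing C) x = g x * b y) :
    ∃ s : Finset C, (↑s : Set C) ⊆ GModLib.Inv UP ∧ GModLib.Inv UP ≤ Algebra.adjoin k (↑s : Set C) := by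
  classical
  obtain ⟨gen, hgen, hle⟩ := fg_lowMonoid πB UM hdens
  choose tr htr using fun s : gen => fg_span_translates (k := k) (s : C)
  -- finitely many translates
  have htr' : ∀ s : gen, ∀ h, GModLib.lt h (s : C) ∈ Submodule.span k (↑(tr s) : Set C) := fun s h => by
    rw [htr s]
    exact Submodule.subset_span ⟨h, rfl⟩
  let t₀ : Finset C := Finset.univ.biUnion tr
  let R₀ : Subalgebra k C := Algebra.adjoin k (↑t₀ : Set C)
  haveI : Algebra.FiniteType k R₀ := (Subalgebra.fg_iff_finiteType _).1 ⟨t₀, rfl⟩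
  have hR₀mem : ∀ (s : gen) h, GModLib.lt h (s : C) ∈ R₀ := fun s h => by
    refine (Submodule.span_le (p := Subalgebra.toSubmodule R₀)).2 (fun x hx => Algebra.subset_adjoin ?_) (htr' s h)
    exact Finset.mem_coe.2 (Finset.mem_biUnion.2 ⟨s, Finset.mem_univ _, hx⟩)
  have hsR : ∀ s ∈ lowMonoid (SG πB) UM, s ∈ GModLib.Inv UP := fun s hs b hb => ext_pt fun z => by
    rw [apply_rt, hs.2.2 z b (hUB hb), hchar s hs b hb, _root_.mul_one]
  have hR₀ : R₀ ≤ GModLib.Inv UP := by
    refine Algebra.adjoin_le fun x hx => ?_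
    obtain ⟨s, -, hxs⟩ := Finset.mem_biUnion.1 (Finset.mem_coe.1 hx)
    have h1 : x ∈ Submodule.span k (Set.range fun h : WithConv (C →ₐ[k] k) => GModLib.lt h (s : C)) := by
      rw [← htr s]
      exact Submodule.subset_span hxs
    refine (Submodule.span_le (p := Subalgebra.toSubmodule (GModLib.Inv UP))).2 ?_ h1
    rintro _ ⟨h, rfl⟩
    exact Inv_lt (hsR _ (hgen s.2)) h
  -- integrality
  let F := FractionRing C
  let ι : C →ₐ[k] F := IsScalarTower.toAlgHom k C F
  have hsemi : ∀ f ∈ GModLib.Inv UP, (∀ b ∈ SG πB, ∃ a : k, GModLib.rt b f = a • f) → IsIntegral R₀ (ι f) := by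
    intro f hf hsf
    rcases eq_or_ne f 0 with rfl | hf0
    · rw [map_zero]; exact isIntegral_zero
    choose! a ha using hsf
    -- the lowest function of the weight
    let W : Submodule k C := Submodule.span k (Set.range fun h : WithConv (C →ₐ[k] k) => GModLib.lt h f)
    have hWstab : ∀ v ∈ UM, ∀ w ∈ W, GModLib.lt v w ∈ W := fun v _ w hw => by
      have : W ≤ W.comap (GModLib.lt v).toLinearMap := Submodule.span_le.2 (by
        rintro _ ⟨h, rfl⟩
        show GModLib.lt v (GModLib.lt h f) ∈ W
        rw [lt_mul_apply]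
        exact Submodule.subset_span ⟨_, rfl⟩)
      exact this hw
    have hW0 : W ≠ ⊥ := fun e => hf0 (by
      have : GModLib.lt 1 f ∈ W := Submodule.subset_span ⟨1, rfl⟩
      rwa [e, Submodule.mem_bot, lt_one_apply] at this)
    obtain ⟨w, hw, hw0, hwv⟩ := hfix W hWstab hW0
    have hwb : ∀ b ∈ SG πB, GModLib.rt b w = a b • w := fun b hb => by
      have : W ≤ LinearMap.ker ((GModLib.rt b).toLinearMap - a b • LinearMap.id) := Submodule.span_le.2 (by
        rintro _ ⟨h, rfl⟩
        show GModLib.rt b (GModLib.lt h f) - a b • GModLib.lt h f = 0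
        rw [rt_lt_comm, ha b hb, map_smul, sub_self])
      exact sub_eq_zero.1 (this hw)
    have hwb' : ∀ g, ∀ b ∈ SG πB, (g * b).ofConv w = a b * g.ofConv w := fun g b hb => by
      rw [← apply_rt, hwb b hb, map_smul, smul_eq_mul]
    have hw1 : (1 : WithConv (C →ₐ[k] k)).ofConv w ≠ 0 := fun e => hw0 (hdens w fun v hv b hb => by
      rw [← apply_lt, hwv v hv, ← _root_.one_mul b, hwb' 1 b hb, e, mul_zero])
    let c₀ := (1 : WithConv (C →ₐ[k] k)).ofConv w
    let s := c₀⁻¹ • w
    have hsb : ∀ b ∈ SG πB, b.ofConv s = a b := fun b hb => by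
      rw [← _root_.one_mul b, map_smul, hwb' 1 b hb, smul_eq_mul, _root_.one_mul, mul_comm (a b), ← mul_assoc,
        inv_mul_cancel₀ hw1, _root_.one_mul]
    have hss : Semi (SG πB) s s := fun g b hb => by
      rw [hsb b hb, map_smul, map_smul, hwb' g b hb, smul_eq_mul, smul_eq_mul]; ring
    have hfs : Semi (SG πB) f s := fun g b hb => by
      rw [hsb b hb, ← apply_rt, ha b hb, map_smul, smul_eq_mul, mul_comm]
    have hsS : s ∈ lowMonoid (SG πB) UM :=
      ⟨by rw [map_smul, smul_eq_mul, inv_mul_cancel₀ hw1], fun v hv => by rw [map_smul, hwv v hv], hss⟩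
    -- valuations
    have hint : ι f ∈ (integralClosure (Subring.closure (Set.range (algebraMap R₀ F))) F).toSubring := by
      rw [← iInf_valuationSubring_superset]
      refine Subring.mem_iInf.2 fun V => ?_
      have hVk : ∀ c : k, algebraMap k F c ∈ V.1 := fun c => V.2 ⟨algebraMap k R₀ c, by
        show ι (algebraMap k C c) = _
        rw [AlgHom.commutes]⟩
      obtain ⟨g, b, hgV, hgb⟩ := hval V.1 hVk
      have hbs : b s ∈ V.1 := by
        let gV : C →+* V.1 := RingHom.codRestrict g.toRingHom V.1.toSubring hgV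
        let P : Ideal C := (IsLocalRing.maximalIdeal V.1).comap gV
        haveI : P.IsPrime := Ideal.IsPrime.comap _
        obtain ⟨φ, hφ⟩ := exists_pt_of_prime (k := k) P
        have hcl : ∀ x ∈ Submonoid.closure (↑gen : Set C), b x ∈ V.1 := by
          intro x hx
          induction hx using Submonoid.closure_induction with
          | mem x hx =>
            have hnP : GModLib.lt φ⁻¹ x ∉ P := fun h => by
              have h' := hφ _ h
              rw [apply_lt, inv_mul_cancel, (hgen hx).1] at h'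
              exact one_ne_zero h'
            have hu : IsUnit (gV (GModLib.lt φ⁻¹ x)) := by
              by_contra hnu
              exact hnP ((IsLocalRing.mem_maximalIdeal _).2 hnu)
            obtain ⟨z, hz⟩ := hu.exists_left_inv
            have hz' : (z : F) * g (GModLib.lt φ⁻¹ x) = 1 := congrArg (fun y : V.1 => (y : F)) hz
            have h := hgb _ _ ((hgen hx).2.2.lt φ⁻¹)
            have h' : b x = (z : F) * algebraMap C F (GModLib.lt φ⁻¹ x) := by
              rw [h, ← mul_assoc, hz', _root_.one_mul]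
            rw [h']
            exact V.1.mul_mem _ _ z.2 (V.2 ⟨⟨_, hR₀mem ⟨x, hx⟩ φ⁻¹⟩, rfl⟩)
          | one => rw [map_one]; exact V.1.one_mem
          | mul x y _ _ hx hy => rw [map_mul]; exact V.1.mul_mem _ _ hx hy
        exact hcl s (hle hsS)
      show algebraMap C F f ∈ V.1
      rw [hgb f s hfs]
      exact V.1.mul_mem _ _ (hgV f) hbs
    have hcl : Subring.closure (Set.range (algebraMap R₀ F)) = (algebraMap R₀ F).range := by
      rw [← RingHom.coe_range]; exact Subring.closure_eq _
    rw [hcl] at hint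
    obtain ⟨p, hp, hpe⟩ := (show IsIntegral (algebraMap R₀ F).range (ι f) from hint)
    have hlift : p.map (algebraMap (algebraMap R₀ F).range F) ∈ Polynomial.lifts (algebraMap R₀ F) := by
      refine (Polynomial.lifts_iff_coeff_lifts _).2 fun n => ?_
      rw [Polynomial.coeff_map]
      exact (p.coeff n).2
    obtain ⟨q, hq, -, hqm⟩ := Polynomial.lifts_and_degree_eq_and_monic hlift (hp.map _)
    refine ⟨q, hqm, ?_⟩
    rw [← Polynomial.eval_map, hq, Polynomial.eval_map, hpe]
  have hint : ∀ f ∈ GModLib.Inv UP, IsIntegral R₀ f := fun f hf => by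
    have hinj : Function.Injective (IsScalarTower.toAlgHom R₀ C F) := IsFractionRing.injective C F
    refine (isIntegral_algHom_iff (IsScalarTower.toAlgHom R₀ C F) hinj).1 ?_
    have h := hdec f hf
    clear hf
    induction h using Submodule.span_induction with
    | mem x hx => exact hsemi x hx.1 hx.2
    | zero => rw [map_zero]; exact isIntegral_zero
    | add x y _ _ hx hy => rw [map_add]; exact hx.add hy
    | smul c x _ hx =>
      rw [show c • x = algebraMap k R₀ c • x from (algebraMap_smul R₀ c x).symm, map_smul]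
      exact hx.smul _
  -- finiteness
  have hR₀inj : Function.Injective (algebraMap R₀ F) := (IsFractionRing.injective C F).comp Subtype.val_injective
  haveI : IsDomain R₀ := inferInstance
  haveI : Module.IsTorsionFree R₀ F := Module.isTorsionFree_iff_algebraMap_injective.2 hR₀inj
  letI : Algebra (FractionRing R₀) F := FractionRing.liftAlgebra R₀ F
  haveI : IsScalarTower R₀ (FractionRing R₀) F := inferInstance
  haveI : Algebra.FiniteType R₀ C := Algebra.FiniteType.of_restrictScalars_finiteType k R₀ C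
  haveI : Algebra.EssFiniteType R₀ F := Algebra.EssFiniteType.comp R₀ C F
  haveI : Algebra.EssFiniteType (FractionRing R₀) F := Algebra.EssFiniteType.of_comp R₀ _ F
  haveI := FieldFG.finite_algebraicClosure (FractionRing R₀) F
  let L := algebraicClosure (FractionRing R₀) F
  haveI : Module.Finite R₀ (integralClosure R₀ L) := N2Field.finite_integralClosure k R₀ (FractionRing R₀) L
  haveI : IsNoetherianRing R₀ := Algebra.FiniteType.isNoetherianRing k R₀
  let IC : Subalgebra R₀ C := integralClosure R₀ C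
  have hmem : ∀ x : IC, algebraMap C F (x : C) ∈ L := fun x =>
    (mem_algebraicClosure_iff).2 ((((x.2 : IsIntegral R₀ (x : C)).map (IsScalarTower.toAlgHom R₀ C F)).tower_top
      (A := FractionRing R₀)).isAlgebraic)
  let jL : L →ₐ[R₀] F := L.val.restrictScalars R₀
  have hjL : Function.Injective jL := Subtype.val_injective
  let j : IC →ₗ[R₀] integralClosure R₀ L :=
    { toFun x := ⟨⟨algebraMap C F (x : C), hmem x⟩, (isIntegral_algHom_iff jL hjL).1
        ((x.2 : IsIntegral R₀ (x : C)).map (IsScalarTower.toAlgHom R₀ C F))⟩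
      map_add' := fun x y => Subtype.ext (Subtype.ext (map_add (algebraMap C F) (x : C) (y : C)))
      map_smul' := fun r x => Subtype.ext (Subtype.ext (by
        show algebraMap C F (r • (x : C)) = r • algebraMap C F (x : C)
        exact IsScalarTower.algebraMap_smul C r (x : C) ▸ map_smul (IsScalarTower.toAlgHom R₀ C F) r (x : C))) }
  haveI : Module.Finite R₀ IC := Module.Finite.of_injective j fun x y h => Subtype.ext
    (IsFractionRing.injective C F (congrArg (fun z : integralClosure R₀ L => ((z : L) : F)) h))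
  let RR : Submodule R₀ C :=
    { carrier := GModLib.Inv UP
      add_mem' := fun ha hb => (GModLib.Inv UP).add_mem ha hb
      zero_mem' := (GModLib.Inv UP).zero_mem
      smul_mem' := fun r x hx => by
        rw [Algebra.smul_def]
        exact (GModLib.Inv UP).mul_mem (hR₀ r.2) hx }
  have hfg : RR.FG := Submodule.FG.of_le (Module.Finite.iff_fg.1 inferInstance : (Subalgebra.toSubmodule IC).FG)
    fun x hx => hint x hx
  obtain ⟨b, hb⟩ := hfg
  refine ⟨t₀ ∪ b, ?_, fun x hx => ?_⟩
  · rw [Finset.coe_union, Set.union_subset_iff]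
    exact ⟨fun x hx => hR₀ (Algebra.subset_adjoin hx), fun x hx => (hb ▸ Submodule.subset_span hx : x ∈ RR)⟩
  · have hx' : x ∈ Submodule.span R₀ (↑b : Set C) := hb ▸ (show x ∈ RR from hx)
    clear hx
    induction hx' using Submodule.span_induction with
    | mem y hy => exact Algebra.subset_adjoin (by simp [hy])
    | zero => exact zero_mem _
    | add y z _ _ hy hz => exact add_mem hy hz
    | smul r y _ hy =>
      rw [Algebra.smul_def]
      exact mul_mem (Algebra.adjoin_mono (by simp) r.2) hy

end Groth.Agent.GrossU
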