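import Groth.Agent.GrossU.Reduce
import Groth.Agent.GModLib.TransferGrp

/-!
Finite generation of `k[G]^U` on the coordinate rings of `U ⊆ G`.
-/

set_option autoImplicit false
set_option backward.isDefEq.respectTransparency false
set_option maxHeartbeats 1000000
set_option synthInstance.maxHeartbeats 200000
set_option linter.style.haveILetI false

universe u

open CategoryTheory MonoidalCategory CartesianMonoidalCategory MonObj GrpObj AlgebraicGeometry
open TensorProduct WithConv

noncomputable section

namespace Groth.Agent.GrossU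

open Groth.Agent.GModLib

variable {k : Type u} [Field k] [IsAlgClosed k]
variable {G Bo U : Over (Spec (CommRingCat.of k))} [GrpObj G] [GrpObj Bo] [GrpObj U]

theorem SG_eq_pts {H : Over (Spec (CommRingCat.of k))} [GrpObj H] {i : H ⟶ G} [IsMonHom i] (c : Coords G H i) :
    SG c.π = pts c.e i := by
  ext φ
  exact (c.exists_lift_iff φ.ofConv).symm

theorem isClosedImmersion_radical {iB : Bo ⟶ G} (hB : Red.IsBorelOver k iB) {u : U ⟶ Bo}
    (hU : Par.IsUnipotentRadical u) : IsClosedImmersion (u ≫ iB).left := by
  haveI := hB.2.1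
  haveI := hU.2.1
  exact inferInstanceAs (IsClosedImmersion (u.left ≫ iB.left))

/-- the invariants `k[G]^U` are finitely generated -/
theorem exists_finset_inv_coords [IsAffine G.left] [Smooth G.hom] {iB : Bo ⟶ G} (hB : Red.IsBorelOver k iB)
    {u : U ⟶ Bo} (hU : Par.IsUnipotentRadical u) [IsMonHom (u ≫ iB)] (c : Coords G U (u ≫ iB)) :
    ∃ s : Finset c.C, (↑s : Set c.C) ⊆ GModLib.Inv (SG c.π) ∧ GModLib.Inv (SG c.π) ≤ Algebra.adjoin k (↑s : Set c.C) := by
  haveI := hB.1
  haveI := hU.1
  rw [SG_eq_pts c]
  exact exists_finset_inv_general iB hB u hU c.e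

end Groth.Agent.GrossU
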