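import Groth.Prelude.Def_W4bk4grossh1223Act
import Mathlib.Algebra.TrivSqZeroExt.Basic
import Mathlib.LinearAlgebra.TensorProduct.Prod
import Mathlib.RingTheory.TensorProduct.Finite

/-!
Invariants of modules from invariants of algebras: the square zero extension `A ⊕ M`.
-/

set_option autoImplicit false
set_option backward.isDefEq.respectTransparency false
set_option maxHeartbeats 1000000
set_option synthInstance.maxHeartbeats 100000
set_option linter.unusedSectionVars false
set_option linter.style.haveILetI false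

universe u

open CategoryTheory MonObj AlgebraicGeometry
open TensorProduct

noncomputable section

namespace Groth.Agent.GrossU

variable {k : Type u} [Field k] {G H : Over (Spec (CommRingCat.of k))} [GrpObj G] [GrpObj H]
variable {A : Type u} [CommRing A] [Algebra k A] {M : Type u} [AddCommGroup M] [Module A M] [Module k M]
  [IsScalarTower k A M]

theorem smulW_tmul {B : Type u} [CommRing B] [Algebra k B] (b b' : B) (a : A) (m : M) :
    VecGrp.GMod.smulW k A M B (b ⊗ₜ[k] a) (b' ⊗ₜ[k] m) = (b * b') ⊗ₜ[k] (a • m) := rfl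

variable [Module Aᵐᵒᵖ M] [IsCentralScalar A M] [SMulCommClass A Aᵐᵒᵖ M] [IsScalarTower k Aᵐᵒᵖ M]

variable (k A M) in
/-- a square zero extension as a product -/
def sqProd : TrivSqZeroExt A M ≃ₗ[k] A × M where
  toFun x := (x.fst, x.snd)
  invFun y := (y.1, y.2)
  map_add' _ _ := rfl
  map_smul' _ _ := rfl
  left_inv _ := rfl
  right_inv _ := rfl

variable (k A M) in
/-- its base change -/
def sqW (B : Type u) [CommRing B] [Algebra k B] :
    B ⊗[k] TrivSqZeroExt A M ≃ₗ[B] (B ⊗[k] A) × (B ⊗[k] M) :=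
  (AlgebraTensorModule.congr (LinearEquiv.refl B B) (sqProd k A M)).trans (TensorProduct.prodRight k B B A M)

theorem sqW_tmul {B : Type u} [CommRing B] [Algebra k B] (b : B) (x : TrivSqZeroExt A M) :
    sqW k A M B (b ⊗ₜ[k] x) = (b ⊗ₜ[k] x.fst, b ⊗ₜ[k] x.snd) := by
  simp [sqW, sqProd]

theorem sqW_mul {B : Type u} [CommRing B] [Algebra k B] (x y : B ⊗[k] TrivSqZeroExt A M) :
    sqW k A M B (x * y) = ((sqW k A M B x).1 * (sqW k A M B y).1,
      VecGrp.GMod.smulW k A M B (sqW k A M B x).1 (sqW k A M B y).2 +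
        VecGrp.GMod.smulW k A M B (sqW k A M B y).1 (sqW k A M B x).2) := by
  induction x using TensorProduct.induction_on with
  | zero => simp [Prod.ext_iff]
  | add x x' hx hx' =>
    simp only [add_mul, map_add, hx, hx', Prod.fst_add, Prod.snd_add, LinearMap.add_apply, Prod.mk_add_mk]
    congr 1
    abel
  | tmul b p =>
    induction y using TensorProduct.induction_on with
    | zero => simp [Prod.ext_iff]
    | add y y' hy hy' =>
      simp only [mul_add, map_add, hy, hy', Prod.fst_add, Prod.snd_add, LinearMap.add_apply, Prod.mk_add_mk]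
      congr 1
      abel
    | tmul c q =>
      rw [Algebra.TensorProduct.tmul_mul_tmul, sqW_tmul, sqW_tmul, sqW_tmul, Algebra.TensorProduct.tmul_mul_tmul,
        smulW_tmul, smulW_tmul, TrivSqZeroExt.fst_mul, TrivSqZeroExt.snd_mul, TensorProduct.tmul_add, mul_comm c b,
        op_smul_eq_smul]

theorem sqW_natural {B B' : Type u} [CommRing B] [Algebra k B] [CommRing B'] [Algebra k B'] (φ : B →ₐ[k] B')
    (x : B ⊗[k] TrivSqZeroExt A M) :
    sqW k A M B' (VecGrp.Wmap φ x) = (VecGrp.Wmap φ (sqW k A M B x).1, VecGrp.Wmap φ (sqW k A M B x).2) := by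
  induction x using TensorProduct.induction_on with
  | zero => simp [Prod.ext_iff]
  | add x y hx hy => simp only [map_add, hx, hy, Prod.fst_add, Prod.snd_add, Prod.mk_add_mk]
  | tmul b p => rw [VecGrp.Wmap_tmul, sqW_tmul, sqW_tmul, VecGrp.Wmap_tmul, VecGrp.Wmap_tmul]

/-- the action on the square zero extension -/
def sqGMod (ρA : VecGrp.GMod G A) (ρM : VecGrp.GMod G M) : VecGrp.GMod G (TrivSqZeroExt A M) where
  ρ B :=
    { toFun g := ((sqW k A M B).trans ((ρA.ρ B g).prodCongr (ρM.ρ B g))).trans (sqW k A M B).symm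
      map_one' := by
        refine LinearEquiv.ext fun x => ?_
        simp only [LinearEquiv.trans_apply, map_one, LinearEquiv.prodCongr_apply]
        exact (sqW k A M B).symm_apply_apply x
      map_mul' g h := by
        refine LinearEquiv.ext fun x => ?_
        simp only [LinearEquiv.trans_apply, map_mul, LinearEquiv.mul_apply, LinearEquiv.prodCongr_apply,
          LinearEquiv.apply_symm_apply] }
  naturality {B B'} _ _ _ _ φ g x := by
    apply (sqW k A M B').injective
    simp only [MonoidHom.coe_mk, OneHom.coe_mk, LinearEquiv.trans_apply, LinearEquiv.prodCongr_apply,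
      LinearEquiv.apply_symm_apply, sqW_natural, ρA.naturality, ρM.naturality]

theorem sqGMod_apply (ρA : VecGrp.GMod G A) (ρM : VecGrp.GMod G M) {B : Type u} [CommRing B] [Algebra k B]
    (g : VecGrp.pt k B ⟶ G) (x : B ⊗[k] TrivSqZeroExt A M) :
    sqW k A M B ((sqGMod ρA ρM).ρ B g x) = (ρA.ρ B g (sqW k A M B x).1, ρM.ρ B g (sqW k A M B x).2) := by
  simp [sqGMod, LinearEquiv.prodCongr_apply]

theorem isMult_sqGMod {ρA : VecGrp.GMod G A} {ρM : VecGrp.GMod G M} (hρ : ρA.IsMult)
    (hc : VecGrp.GMod.IsCompat ρA ρM) : (sqGMod ρA ρM).IsMult := by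
  intro B _ _ g
  refine ⟨fun x y => (sqW k A M B).injective ?_, (sqW k A M B).injective ?_⟩
  · simp only [sqGMod_apply, sqW_mul, (hρ B g).1, map_add, hc B g]
  · rw [sqGMod_apply, Algebra.TensorProduct.one_def, sqW_tmul, TrivSqZeroExt.fst_one, TrivSqZeroExt.snd_one,
      TensorProduct.tmul_zero, map_zero, ← Algebra.TensorProduct.one_def, (hρ B g).2]

theorem mem_fixed_sqGMod {ρA : VecGrp.GMod G A} {ρM : VecGrp.GMod G M} {i : H ⟶ G} {x : TrivSqZeroExt A M} :
    x ∈ (sqGMod ρA ρM).fixedUnder i ↔ x.fst ∈ ρA.fixedUnder i ∧ x.snd ∈ ρM.fixedUnder i := by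
  constructor
  · intro h
    refine ⟨fun B _ _ g => ?_, fun B _ _ g => ?_⟩
    · have h' := congrArg (fun z => (sqW k A M B z).1) (h B g)
      simpa [sqGMod_apply, sqW_tmul] using h'
    · have h' := congrArg (fun z => (sqW k A M B z).2) (h B g)
      simpa [sqGMod_apply, sqW_tmul] using h'
  · intro h B _ _ g
    apply (sqW k A M B).injective
    rw [sqGMod_apply, sqW_tmul, h.1 B g, h.2 B g]

omit [Module Aᵐᵒᵖ M] [IsCentralScalar A M] [SMulCommClass A Aᵐᵒᵖ M] [IsScalarTower k Aᵐᵒᵖ M]

variable (i : H ⟶ G)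

/-- if every square zero extension has finitely generated invariants, so does every finite module -/
theorem exists_fixed_span_of_algebra
    (fg : ∀ (E : Type u) [CommRing E] [Algebra k E] [Algebra.FiniteType k E] (ρ : VecGrp.GMod G E), ρ.IsMult →
      VecGrp.AdjoinFG k (ρ.fixedUnder i : Set E))
    [Algebra.FiniteType k A] [Module.Finite A M] (ρA : VecGrp.GMod G A) (hρ : ρA.IsMult) (ρM : VecGrp.GMod G M)
    (hc : VecGrp.GMod.IsCompat ρA ρM) :
    ∃ s : Finset M, (↑s : Set M) ⊆ ρM.fixedUnder i ∧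
      ρM.fixedUnder i ≤ (Submodule.span ↥(ρA.fixedSubalgebra hρ i) (↑s : Set M)).restrictScalars k := by
  classical
  letI : Module Aᵐᵒᵖ M := Module.compHom M ((RingHom.id A).fromOpposite mul_comm)
  haveI : IsCentralScalar A M := ⟨fun _ _ => rfl⟩
  haveI : SMulCommClass A Aᵐᵒᵖ M := ⟨fun a b m => smul_comm a (MulOpposite.unop b) m⟩
  haveI : IsScalarTower k Aᵐᵒᵖ M := ⟨fun c b m => by
    show MulOpposite.unop (c • b) • m = c • (MulOpposite.unop b • m)
    rw [MulOpposite.unop_smul, smul_assoc]⟩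
  haveI : Module.Finite A (TrivSqZeroExt A M) :=
    Module.Finite.equiv
      ({ toFun y := (y.1, y.2)
         invFun x := (x.fst, x.snd)
         map_add' _ _ := rfl
         map_smul' _ _ := rfl
         left_inv _ := rfl
         right_inv _ := rfl } : (A × M) ≃ₗ[A] TrivSqZeroExt A M)
  haveI : Algebra.FiniteType k (TrivSqZeroExt A M) :=
    Algebra.FiniteType.trans (S := A) (inferInstanceAs (Algebra.FiniteType k A))
      (inferInstanceAs (Algebra.FiniteType A (TrivSqZeroExt A M)))
  obtain ⟨t, ht, hle⟩ := fg (TrivSqZeroExt A M) (sqGMod ρA ρM) (isMult_sqGMod hρ hc)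
  refine ⟨t.image TrivSqZeroExt.snd, ?_, ?_⟩
  · rw [Finset.coe_image]
    rintro _ ⟨x, hx, rfl⟩
    exact (mem_fixed_sqGMod.1 (ht hx)).2
  · intro m hm
    have hmem : TrivSqZeroExt.inr m ∈ (sqGMod ρA ρM).fixedUnder i :=
      mem_fixed_sqGMod.2 ⟨by rw [TrivSqZeroExt.fst_inr]; exact Submodule.zero_mem _,
        by rw [TrivSqZeroExt.snd_inr]; exact hm⟩
    have key : ∀ x ∈ Algebra.adjoin k (↑t : Set (TrivSqZeroExt A M)),
        x.fst ∈ ρA.fixedSubalgebra hρ i ∧
          x.snd ∈ Submodule.span ↥(ρA.fixedSubalgebra hρ i) (↑(t.image TrivSqZeroExt.snd) : Set M) := by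
      intro x hx
      induction hx using Algebra.adjoin_induction with
      | mem x hx =>
        exact ⟨(mem_fixed_sqGMod.1 (ht hx)).1, Submodule.subset_span (Finset.mem_coe.2 (Finset.mem_image_of_mem _ hx))⟩
      | algebraMap r =>
        rw [TrivSqZeroExt.algebraMap_eq_inl', TrivSqZeroExt.fst_inl, TrivSqZeroExt.snd_inl]
        exact ⟨Subalgebra.algebraMap_mem _ _, Submodule.zero_mem _⟩
      | add x y _ _ hx hy =>
        rw [TrivSqZeroExt.fst_add, TrivSqZeroExt.snd_add]
        exact ⟨add_mem hx.1 hy.1, add_mem hx.2 hy.2⟩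
      | mul x y _ _ hx hy =>
        rw [TrivSqZeroExt.fst_mul, TrivSqZeroExt.snd_mul, op_smul_eq_smul]
        exact ⟨mul_mem hx.1 hy.1, add_mem (Submodule.smul_mem _ ⟨x.fst, hx.1⟩ hy.2)
          (Submodule.smul_mem _ ⟨y.fst, hy.1⟩ hx.2)⟩
    have h := (key _ (hle hmem)).2
    rw [TrivSqZeroExt.snd_inr] at h
    exact h

end Groth.Agent.GrossU
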