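import Groth.Agent.GrossU.Act
import Groth.Agent.GrossU.SquareZero
import Mathlib.RingTheory.IntegralClosure.Algebra.Basic
import Mathlib.Algebra.Algebra.Operations

/-!
Integrality over stable subalgebras containing the invariants of a maximal unipotent subgroup.
-/

set_option autoImplicit false
set_option backward.isDefEq.respectTransparency false
set_option maxHeartbeats 2000000
set_option synthInstance.maxHeartbeats 200000
set_option linter.style.haveILetI false
set_option linter.unusedSectionVars false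

universe u

open CategoryTheory MonoidalCategory CartesianMonoidalCategory MonObj GrpObj AlgebraicGeometry
open TensorProduct WithConv
open scoped Pointwise Polynomial

noncomputable section

namespace Groth.Agent.GrossU

open Groth.Agent.GModLib

variable {k : Type u} [Field k] [IsAlgClosed k]
variable {C : Type u} [CommRing C] [HopfAlgebra k C] [Algebra.FiniteType k C] [_root_.IsReduced C]
variable {G U : Over (Spec (CommRingCat.of k))} [GrpObj G] [GrpObj U]

/-- invariants of finitely generated algebras are finitely generated -/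
def FGInv (k : Type u) [Field k] {G U : Over (Spec (CommRingCat.of k))} [GrpObj G] [GrpObj U] (i : U ⟶ G) : Prop :=
  ∀ (E : Type u) [CommRing E] [Algebra k E] [Algebra.FiniteType k E] (ρ : VecGrp.GMod G E), ρ.IsMult →
    VecGrp.AdjoinFG k (ρ.fixedUnder i : Set E)

variable (e : (Spec (CommRingCat.of C)).asOver (Spec (CommRingCat.of k)) ≅ G) [IsMonHom e.hom]
variable (i : U ⟶ G) [IsMonHom i] [IsAffine U.left] [Smooth U.hom]
variable {A : Type u} [CommRing A] [Algebra k A]

theorem Act.mem_fixedUnder (α : Act k C A) (a : A) :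
    a ∈ (α.gmod e).fixedUnder i ↔ a ∈ α.Fixed (pts e i) :=
  mem_fixedUnder_iff_act α e i _ (fun φ b => (α.gmod_lid e φ b).symm) a

theorem Act.fg_fixed (fg : FGInv k i) [Algebra.FiniteType k A] (α : Act k C A) : (α.Fixed (pts e i)).FG := by
  obtain ⟨s, hs, hle⟩ := fg A (α.gmod e) (α.isMult_gmod e)
  exact ⟨s, le_antisymm (Algebra.adjoin_le fun x hx => (α.mem_fixedUnder e i x).1 (hs hx))
    fun x hx => hle ((α.mem_fixedUnder e i x).2 hx)⟩

/-- the coaction commutes with equivariant maps -/
theorem Act.Equi.delta {R D : Type u} [CommRing R] [Algebra k R] [CommRing D] [Algebra k D] {α : Act k C R}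
    {β : Act k C D} {f : R →ₐ[k] D} (hf : α.Equi β f) (r : R) :
    β.δ (f r) = Algebra.TensorProduct.map f (AlgHom.id k C) (α.δ r) :=
  ev_ext fun φ => by rw [ev_map]; exact (hf φ r).symm

variable {R D : Type u} [CommRing R] [Algebra k R] [Algebra.FiniteType k R] [CommRing D] [Algebra k D]

/-- invariants of a quotient are finite over the image of the invariants -/
theorem isIntegral_image (fg : FGInv k i) (α : Act k C R) (β : Act k C D) (f : R →ₐ[k] D)
    (hs : Function.Surjective f) (hf : α.Equi β f) {d : D} (hd : d ∈ β.Fixed (pts e i)) :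
    IsIntegral ↥((α.Fixed (pts e i)).map f) d := by
  letI : Algebra R D := f.toRingHom.toAlgebra
  haveI : IsScalarTower k R D := IsScalarTower.of_algebraMap_eq fun x => (f.commutes x).symm
  haveI : Module.Finite R D := Module.Finite.of_surjective (Algebra.linearMap R D) hs
  have hδ := hf.delta (α := α)
  have key : ∀ (B : Type u) [CommRing B] [Algebra k B] (g : VecGrp.pt k B ⟶ G) (x : B ⊗[k] R),
      (β.gmod e).ρ B g (Algebra.TensorProduct.map (AlgHom.id k B) f x) =
        Algebra.TensorProduct.map (AlgHom.id k B) f ((α.gmod e).ρ B g x) := by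
    intro B _ _ g x
    obtain ⟨φ, rfl⟩ := exists_eq_pnt e g
    induction x using TensorProduct.induction_on with
    | zero => simp
    | add x y hx hy => simp only [map_add, hx, hy]
    | tmul b r =>
      have h1 : ∀ b' : B ⊗[k] R, Algebra.TensorProduct.map (AlgHom.id k B) f (b • b') =
          b • Algebra.TensorProduct.map (AlgHom.id k B) f b' := fun b' => by
        induction b' using TensorProduct.induction_on with
        | zero => simp
        | add x y hx hy => simp only [smul_add, map_add, hx, hy]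
        | tmul p q => simp [TensorProduct.smul_tmul']
      rw [show b ⊗ₜ[k] r = b • ((1 : B) ⊗ₜ[k] r) by simp [TensorProduct.smul_tmul'], h1, map_smul, map_smul, h1]
      congr 1
      rw [Algebra.TensorProduct.map_tmul, AlgHom.id_apply]
      letI := α.comod
      letI := β.comod
      show (ofComod e D).ρ B (pnt e φ) ((1 : B) ⊗ₜ[k] f r) =
        Algebra.TensorProduct.map (AlgHom.id k B) f ((ofComod e R).ρ B (pnt e φ) ((1 : B) ⊗ₜ[k] r))
      rw [ofComod_pnt, ofComod_pnt]
      show TensorProduct.comm k D B (φ.toLinearMap.lTensor D (β.δ (f r))) =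
        Algebra.TensorProduct.map (AlgHom.id k B) f (TensorProduct.comm k R B (φ.toLinearMap.lTensor R (α.δ r)))
      rw [hδ]
      generalize α.δ r = t
      induction t using TensorProduct.induction_on with
      | zero => simp
      | add x y hx hy => simp only [map_add, hx, hy]
      | tmul p q => simp
  have hc : VecGrp.GMod.IsCompat (α.gmod e) (β.gmod e) := by
    intro B _ _ g x y
    have hsm : ∀ (x : B ⊗[k] R) (y : B ⊗[k] D),
        VecGrp.GMod.smulW k R D B x y = Algebra.TensorProduct.map (AlgHom.id k B) f x * y := by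
      intro x y
      induction x using TensorProduct.induction_on with
      | zero => simp
      | add x x' hx hx' => simp only [map_add, LinearMap.add_apply, hx, hx', add_mul]
      | tmul b r =>
        induction y using TensorProduct.induction_on with
        | zero => simp
        | add y y' hy hy' => simp only [map_add, hy, hy', mul_add]
        | tmul b' d' => simp [smulW_tmul, Algebra.smul_def, RingHom.algebraMap_toAlgebra]
    rw [hsm, hsm, ((β.isMult_gmod e) B g).1, key]
  obtain ⟨s, hs', hle⟩ := exists_fixed_span_of_algebra i fg (α.gmod e) (α.isMult_gmod e) (β.gmod e) hc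
  let S : Subalgebra k D := (α.Fixed (pts e i)).map f
  have hSfix : ∀ x : S, (x : D) ∈ β.Fixed (pts e i) := by
    rintro ⟨_, r, hr, rfl⟩
    exact hf.map_fixed (α := α) hr
  let T : Subalgebra S D :=
    { (β.Fixed (pts e i)).toSubsemiring with
      algebraMap_mem' := fun x => hSfix x }
  refine IsIntegral.of_mem_of_fg T ⟨s, le_antisymm ?_ ?_⟩ d hd
  · exact Submodule.span_le.2 fun x hx => (β.mem_fixedUnder e i x).1 (hs' hx)
  · intro x hx
    have h1 := hle ((β.mem_fixedUnder e i x).2 hx)
    simp only [Submodule.restrictScalars_mem] at h1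
    refine Submodule.span_induction (p := fun y _ => y ∈ Submodule.span S (↑s : Set D)) ?_ ?_ ?_ ?_ h1
    · exact fun y hy => Submodule.subset_span hy
    · exact Submodule.zero_mem _
    · exact fun y z _ _ hy hz => Submodule.add_mem _ hy hz
    · intro r y _ hy
      have hr : (r : R) ∈ α.Fixed (pts e i) := (α.mem_fixedUnder e i _).1 r.2
      have : r • y = (⟨f r, _, hr, rfl⟩ : S) • y := rfl
      rw [this]
      exact Submodule.smul_mem _ _ hy

section Powers

variable {Cs : Type u} [CommRing Cs] [Algebra Cs A]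

/-- the degree filtration of an algebra with given generators -/
def degF (Cs : Type u) [CommRing Cs] [Algebra Cs A] (s : Finset A) (n : ℕ) : Submodule Cs A :=
  Submodule.span Cs (insert (1 : A) (↑s : Set A)) ^ n

theorem degF_one_mem (s : Finset A) (n : ℕ) : (1 : A) ∈ degF Cs s n := by
  induction n with
  | zero => rw [degF, pow_zero]; exact Submodule.one_le.1 le_rfl
  | succ n ih =>
    rw [degF, pow_succ]
    simpa [degF] using Submodule.mul_mem_mul ih (Submodule.subset_span (R := Cs) (Set.mem_insert (1 : A) _))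

theorem degF_mul {s : Finset A} {m n : ℕ} {a b : A} (ha : a ∈ degF Cs s m) (hb : b ∈ degF Cs s n) :
    a * b ∈ degF Cs s (m + n) := by
  rw [degF, pow_add]
  exact Submodule.mul_mem_mul ha hb

theorem degF_mono (s : Finset A) {m n : ℕ} (h : m ≤ n) : degF Cs s m ≤ degF Cs s n := fun a ha => by
  have h1 := degF_mul ha (degF_one_mem s (n - m))
  rwa [_root_.mul_one, Nat.add_sub_cancel' h] at h1

theorem degF_pow {s : Finset A} {m : ℕ} {a : A} (ha : a ∈ degF Cs s m) :
    ∀ j : ℕ, a ^ j ∈ degF Cs s (m * j)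
  | 0 => by rw [pow_zero]; exact degF_one_mem s _
  | j + 1 => by rw [pow_succ, Nat.mul_succ]; exact degF_mul (degF_pow ha j) ha

/-- if high powers of the generators drop in degree the filtration stops -/
theorem degF_stop [DecidableEq A] (s : Finset A) (N : ℕ) (h : ∀ v ∈ s, v ^ (N + 1) ∈ degF Cs s N) (n : ℕ) :
    degF Cs s n ≤ degF Cs s ((s.card + 1) * (N + 1)) := by
  set L := (s.card + 1) * (N + 1)
  induction n using Nat.strong_induction_on with
  | _ n ih =>
    rcases le_or_gt n L with hn | hn
    · exact degF_mono s hn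
    refine le_trans ?_ (ih (n - 1) (by omega))
    rw [degF, Submodule.span_pow]
    refine Submodule.span_le.2 fun a ha => ?_
    obtain ⟨f, rfl⟩ := Set.mem_pow.1 ha
    let s' : Finset A := insert 1 s
    have hfs : ∀ j : Fin n, (f j : A) ∈ s' := fun j => by
      rcases (f j).2 with h1 | h1
      · exact Finset.mem_insert.2 (Or.inl h1)
      · exact Finset.mem_insert_of_mem h1
    have h' : ∀ v ∈ s', v ^ (N + 1) ∈ degF Cs s N := fun v hv => by
      rcases Finset.mem_insert.1 hv with rfl | hv
      · rw [one_pow]; exact degF_one_mem s N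
      · exact h v hv
    obtain ⟨v, hv, hcard⟩ := Finset.exists_lt_card_fiber_of_mul_lt_card_of_maps_to (s := (Finset.univ : Finset (Fin n)))
      (t := s') (f := fun j => (f j : A)) (n := N) (fun j _ => hfs j) (by
        rw [Finset.card_univ, Fintype.card_fin]
        have h1 : s'.card ≤ s.card + 1 := Finset.card_insert_le _ _
        calc s'.card * N ≤ (s.card + 1) * (N + 1) := Nat.mul_le_mul h1 (Nat.le_succ N)
          _ < n := hn)
    have hprod : ∀ t : Finset (Fin n), ∏ j ∈ t, (f j : A) ∈ degF Cs s t.card := by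
      intro t
      induction t using Finset.induction_on with
      | empty => simpa using degF_one_mem s 0
      | insert j t hj iht =>
        rw [Finset.prod_insert hj, Finset.card_insert_of_notMem hj, add_comm]
        refine degF_mul ?_ iht
        rw [degF, pow_one]
        exact Submodule.subset_span (f j).2
    rw [List.prod_ofFn]
    set t := (Finset.univ : Finset (Fin n)).filter fun j => (f j : A) = v
    rw [← Finset.prod_mul_prod_compl t, Finset.prod_congr rfl fun j hj => (Finset.mem_filter.1 hj).2, Finset.prod_const,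
      show t.card = (N + 1) + (t.card - (N + 1)) by omega, pow_add]
    have hv1 : v ∈ degF Cs s 1 := by
      rw [degF, pow_one]
      exact Submodule.subset_span (by simpa [s'] using hv)
    have h3 := degF_mul (degF_mul (h' v hv) (degF_pow hv1 (t.card - (N + 1)))) (hprod tᶜ)
    refine degF_mono s ?_ h3
    have h4 : t.card + tᶜ.card = n := by rw [Finset.card_add_card_compl, Fintype.card_fin]
    omega

end Powers

variable [ConnectedSpace U.left]

/-- **integrality over a stable subalgebra containing the invariants** -/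
theorem isIntegral_of_fixed (fg : FGInv k i) (hUno : Red.HasNoSubtorus k U) [Algebra.FiniteType k A]
    (α : Act k C A) (Cs : Subalgebra k A) (hCfg : Cs.FG) (hCσ : ∀ φ, ∀ a ∈ Cs, α.σ φ a ∈ Cs)
    (h : ∀ a ∈ α.Fixed (pts e i), IsIntegral Cs a) : Algebra.IsIntegral Cs A := by
  classical
  obtain ⟨g, hg⟩ := (inferInstance : Algebra.FiniteType k A).out
  obtain ⟨W, hWfg, hgW, hWσ⟩ := α.exists_stable g
  obtain ⟨ws, hws⟩ := id hWfg
  obtain ⟨cs, hcs⟩ := hCfg
  let F : ℕ → Submodule Cs A := degF Cs ws
  have hWF : ∀ w ∈ W, w ∈ F 1 := fun w hw => by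
    rw [show F 1 = Submodule.span Cs (insert (1 : A) (↑ws : Set A)) from pow_one _]
    have : W ≤ (Submodule.span Cs (insert (1 : A) (↑ws : Set A))).restrictScalars k :=
      hws ▸ Submodule.span_le.2 fun x hx => Submodule.subset_span (Set.mem_insert_of_mem _ hx)
    exact this hw
  -- the cone
  obtain ⟨αX, hαX⟩ := α.exists_poly
  let gens : Finset A[X] := (cs.image fun c => Polynomial.C c) ∪ (ws.image fun w => Polynomial.monomial 1 w) ∪ {Polynomial.X}
  let R : Subalgebra k A[X] := Algebra.adjoin k (↑gens : Set A[X])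
  have hRC : ∀ c ∈ Cs, Polynomial.C c ∈ R := fun c hc => by
    have h1 : Cs ≤ R.comap (Polynomial.CAlgHom : A →ₐ[k] A[X]) := hcs ▸ Algebra.adjoin_le fun x hx =>
      Algebra.subset_adjoin (Finset.mem_coe.2 (Finset.mem_union_left _ (Finset.mem_union_left _ (Finset.mem_image_of_mem _ hx))))
    exact h1 hc
  have hRX : (Polynomial.X : A[X]) ∈ R :=
    Algebra.subset_adjoin (Finset.mem_coe.2 (Finset.mem_union_right _ (Finset.mem_singleton_self _)))
  have hRW : ∀ w ∈ W, Polynomial.monomial 1 w ∈ R := fun w hw => by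
    have h1 : W ≤ (Subalgebra.toSubmodule R).comap ((Polynomial.monomial 1 : A →ₗ[A] A[X]).restrictScalars k) :=
      hws ▸ Submodule.span_le.2 fun x hx =>
        Algebra.subset_adjoin (Finset.mem_coe.2 (Finset.mem_union_left _ (Finset.mem_union_right _ (Finset.mem_image_of_mem _ hx))))
    exact h1 hw
  have hRcoeff : ∀ P ∈ R, ∀ n, P.coeff n ∈ F n := by
    intro P hP
    have hC0 : ∀ c ∈ Cs, ∀ n, (Polynomial.C c).coeff n ∈ F n := fun c hc n => by
      rw [Polynomial.coeff_C]
      split_ifs with hn
      · subst hn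
        rw [show F 0 = (1 : Submodule Cs A) from pow_zero _, Submodule.mem_one]
        exact ⟨⟨c, hc⟩, rfl⟩
      · exact Submodule.zero_mem _
    induction hP using Algebra.adjoin_induction with
    | mem P hP =>
      simp only [gens, Finset.coe_union, Finset.coe_image, Finset.coe_singleton, Set.mem_union, Set.mem_image,
        Set.mem_singleton_iff] at hP
      rcases hP with (⟨c, hc, rfl⟩ | ⟨w, hw, rfl⟩) | rfl
      · exact hC0 c (hcs ▸ Algebra.subset_adjoin hc)
      · intro n
        rw [Polynomial.coeff_monomial]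
        split_ifs with hn
        · subst hn; exact hWF w (hws ▸ Submodule.subset_span hw)
        · exact Submodule.zero_mem _
      · intro n
        rw [Polynomial.coeff_X]
        split_ifs with hn
        · subst hn; exact degF_one_mem _ _
        · exact Submodule.zero_mem _
    | algebraMap r => exact hC0 (algebraMap k A r) (Subalgebra.algebraMap_mem _ r)
    | add p q _ _ hp hq => exact fun n => by rw [Polynomial.coeff_add]; exact Submodule.add_mem _ (hp n) (hq n)
    | mul p q _ _ hp hq =>
      intro n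
      rw [Polynomial.coeff_mul]
      refine Submodule.sum_mem _ fun x hx => ?_
      rw [← Finset.HasAntidiagonal.mem_antidiagonal.1 hx]
      exact degF_mul (hp _) (hq _)
  have hFR : ∀ n, ∀ a ∈ F n, Polynomial.monomial n a ∈ R := by
    intro n
    induction n with
    | zero =>
      intro a ha
      rw [show F 0 = (1 : Submodule Cs A) from pow_zero _, Submodule.mem_one] at ha
      obtain ⟨c, rfl⟩ := ha
      rw [Polynomial.monomial_zero_left]
      exact hRC _ c.2
    | succ n ih =>
      intro a ha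
      rw [show F (n + 1) = F n * Submodule.span Cs (insert (1 : A) (↑ws : Set A)) from pow_succ _ _] at ha
      induction ha using Submodule.mul_induction_on' with
      | mem_mul_mem a ha b hb =>
        rw [← Polynomial.monomial_mul_monomial]
        refine R.mul_mem (ih a ha) ?_
        clear ha
        induction hb using Submodule.span_induction with
        | mem x hx =>
          rcases hx with rfl | hx
          · rw [Polynomial.monomial_one_one_eq_X]; exact hRX
          · exact hRW x (hws ▸ Submodule.subset_span hx)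
        | zero => rw [map_zero]; exact R.zero_mem
        | add x y _ _ hx hy => rw [map_add]; exact R.add_mem hx hy
        | smul c x _ hx =>
          rw [show c • x = (c : A) * x from rfl, ← Polynomial.C_mul_monomial]
          exact R.mul_mem (hRC _ c.2) hx
      | add a _ b _ ha hb => rw [map_add]; exact R.add_mem ha hb
  haveI : Algebra.FiniteType k R := (Subalgebra.fg_iff_finiteType _).1 ⟨gens, rfl⟩
  have hRσ : ∀ φ, ∀ P ∈ R, αX.σ φ P ∈ R := fun φ P hP => by
    refine αX.adjoin_stable (fun φ P hP => ?_) φ hP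
    simp only [gens, Finset.coe_union, Finset.coe_image, Finset.coe_singleton, Set.mem_union, Set.mem_image,
      Set.mem_singleton_iff] at hP
    show _ ∈ R
    rcases hP with (⟨c, hc, rfl⟩ | ⟨w, hw, rfl⟩) | rfl
    · rw [hαX, Polynomial.map_C]; exact hRC _ (hCσ _ _ (hcs ▸ Algebra.subset_adjoin hc))
    · rw [hαX, Polynomial.map_monomial]; exact hRW _ (hWσ _ _ (hws ▸ Submodule.subset_span hw))
    · rw [hαX, Polynomial.map_X]; exact hRX
  obtain ⟨αR, hαR⟩ := αX.exists_sub R hRσ
  let tR : R := ⟨Polynomial.X, hRX⟩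
  let I₀ : Ideal R := Ideal.span {tR}
  let J : Ideal R := I₀.radical
  have htσ : ∀ φ, αR.σ φ tR = tR := fun φ => Subtype.ext (by
    have h1 := hαR φ tR
    simp only [Subalgebra.coe_val] at h1
    rw [h1, hαX]
    exact Polynomial.map_X _)
  have hJσ : ∀ φ, ∀ x ∈ J, αR.σ φ x ∈ J := by
    rintro φ x ⟨n, hn⟩
    refine ⟨n, ?_⟩
    obtain ⟨q, hq⟩ := Ideal.mem_span_singleton'.1 hn
    refine Ideal.mem_span_singleton'.2 ⟨αR.σ φ q, ?_⟩
    rw [← map_pow, ← hq, map_mul, htσ]
  -- dropping of degree
  have hdrop : ∀ (n : ℕ) (x : R), x ∈ I₀ → (x : A[X]).coeff (n + 1) ∈ F n := by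
    intro n x hx
    obtain ⟨q, hq⟩ := Ideal.mem_span_singleton'.1 hx
    rw [← hq, Subalgebra.coe_mul]
    show ((q : A[X]) * Polynomial.X).coeff (n + 1) ∈ F n
    rw [Polynomial.coeff_mul_X]
    exact hRcoeff _ q.2 n
  have hlift : ∀ (n : ℕ) (a : A) (ha : Polynomial.monomial (n + 1) a ∈ R), a ∈ F n →
      (⟨_, ha⟩ : R) ∈ I₀ := fun n a ha han =>
    Ideal.mem_span_singleton'.2 ⟨⟨_, hFR n a han⟩, Subtype.ext (by
      show Polynomial.monomial n a * Polynomial.X = _
      rw [Polynomial.monomial_mul_X])⟩
  let mW : W →ₗ[k] R :=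
    { toFun := fun w => ⟨Polynomial.monomial 1 (w : A), hRW w w.2⟩
      map_add' := fun x y => Subtype.ext (map_add _ _ _)
      map_smul' := fun r x => Subtype.ext (by
        show Polynomial.monomial 1 (r • (x : A)) = r • Polynomial.monomial 1 (x : A)
        rw [Polynomial.smul_monomial]) }
  have hpow : ∀ (w : W) (n : ℕ), ((mW w ^ n : R) : A[X]) = Polynomial.monomial n ((w : A) ^ n) := fun w n => by
    rw [SubmonoidClass.coe_pow]
    show Polynomial.monomial 1 (w : A) ^ n = _
    rw [Polynomial.monomial_pow, _root_.one_mul]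
  by_cases hall : ∀ w : W, mW w ∈ J
  · -- finiteness
    have hw' : ∀ w ∈ ws, ∃ N, w ^ (N + 1) ∈ F N := by
      intro w hw
      obtain ⟨N, hN⟩ := hall ⟨w, hws ▸ Submodule.subset_span hw⟩
      refine ⟨N, ?_⟩
      have h1 := hdrop N _ (I₀.mul_mem_left (mW ⟨w, hws ▸ Submodule.subset_span hw⟩) hN)
      rwa [← pow_succ', hpow, Polynomial.coeff_monomial, if_pos rfl] at h1
    choose! Nw hNw using hw'
    let N := ws.sup Nw
    have hN : ∀ v ∈ ws, v ^ (N + 1) ∈ F N := fun v hv => by
      have hle : Nw v ≤ N := Finset.le_sup hv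
      have h1 := degF_mul (hNw v hv) (degF_pow (hWF v (hws ▸ Submodule.subset_span hv)) (N - Nw v))
      rw [← pow_add, _root_.one_mul, Nat.add_sub_cancel' hle,
        show Nw v + 1 + (N - Nw v) = N + 1 by omega] at h1
      exact h1
    let L := (ws.card + 1) * (N + 1)
    let T : Subalgebra k A :=
      { carrier := F L
        mul_mem' := fun {a b} ha hb => degF_stop ws N hN _ (degF_mul ha hb)
        one_mem' := degF_one_mem _ _
        add_mem' := fun {a b} ha hb => Submodule.add_mem _ ha hb
        zero_mem' := Submodule.zero_mem _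
        algebraMap_mem' := fun r => by
          rw [Algebra.algebraMap_eq_smul_one]
          exact Submodule.smul_of_tower_mem _ r (degF_one_mem _ _) }
    have hT : T = ⊤ := eq_top_iff.2 (hg ▸ Algebra.adjoin_le fun x hx =>
      degF_mono ws (show 1 ≤ L from Nat.one_le_iff_ne_zero.2 (by simp [L])) (hWF x (hgW hx)))
    have hfin : (F L).FG := Submodule.FG.pow (Submodule.fg_span (ws.finite_toSet.insert 1)) L
    haveI : Module.Finite Cs A := ⟨by
      rwa [show F L = ⊤ from eq_top_iff.2 fun x _ => (SetLike.ext_iff.1 hT x).2 Algebra.mem_top] at hfin⟩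
    exact Algebra.IsIntegral.of_finite Cs A
  -- a fixed vector at infinity
  exfalso
  push Not at hall
  obtain ⟨w₀, hw₀⟩ := hall
  obtain ⟨β, hβ⟩ := αR.exists_quot J hJσ
  let q : R →ₐ[k] R ⧸ J := Ideal.Quotient.mkₐ k J
  let M : Submodule k (R ⧸ J) := LinearMap.range (q.toLinearMap ∘ₗ mW)
  haveI : ConnectedSpace U.left := inferInstance
  obtain ⟨d, hd, hd0, hdfix⟩ := exists_fixed_mem hUno (β.gmod e) i M (fun h x hx => by
    obtain ⟨φ, hφ⟩ := exists_eq_pnt e (h ≫ i)
    rw [← hφ, show φ = (toConv φ).ofConv from rfl, β.gmod_lid]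
    obtain ⟨w, rfl⟩ := hx
    refine ⟨⟨α.σ (toConv φ) w, hWσ _ _ w.2⟩, ?_⟩
    show q (mW _) = β.σ (toConv φ) (q (mW w))
    rw [← hβ]
    congr 1
    apply Subtype.ext
    have h1 := hαR (toConv φ) (mW w)
    simp only [Subalgebra.coe_val] at h1
    rw [h1, hαX]
    exact (Polynomial.map_monomial _).symm)
    ((Submodule.ne_bot_iff _).2 ⟨_, ⟨w₀, rfl⟩, fun h => hw₀ (Ideal.Quotient.eq_zero_iff_mem.1 h)⟩)
  obtain ⟨w, rfl⟩ := hd
  change q (mW w) ∈ _ at hdfix
  change q (mW w) ≠ 0 at hd0
  obtain ⟨p, hp, hpd⟩ := isIntegral_image e i fg αR β q Ideal.Quotient.mk_surjective hβ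
    ((β.mem_fixedUnder e i _).1 hdfix)
  -- the coefficients are constants modulo J
  have hconst : ∀ r ∈ αR.Fixed (pts e i), ∃ c ∈ Cs, ∃ hc : Polynomial.C c ∈ R, q r = q ⟨_, hc⟩ := by
    intro r hr
    refine ⟨(r : A[X]).coeff 0, ?_, ?_⟩
    · have h1 := hRcoeff _ r.2 0
      rw [show F 0 = (1 : Submodule Cs A) from pow_zero _, Submodule.mem_one] at h1
      obtain ⟨c, hc⟩ := h1
      rw [← hc]; exact c.2
    have hcoef : ∀ n, (r : A[X]).coeff (n + 1) ∈ α.Fixed (pts e i) := fun n v hv => by
      have h1 := congrArg (fun P : R => (P : A[X]).coeff (n + 1)) (hr v hv)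
      have h2 := hαR v r
      simp only [Subalgebra.coe_val] at h2
      simp only [h2, hαX, Polynomial.coeff_map] at h1
      exact h1
    have hmem : ∀ n, ∀ hm : Polynomial.monomial (n + 1) ((r : A[X]).coeff (n + 1)) ∈ R, (⟨_, hm⟩ : R) ∈ J := by
      intro n hm
      set a := (r : A[X]).coeff (n + 1)
      obtain ⟨pa, hpa, hpa0⟩ := h a (hcoef n)
      rcases Nat.eq_zero_or_pos pa.natDegree with h0 | h0
      · rw [Polynomial.eq_one_of_monic_natDegree_zero hpa h0, Polynomial.eval₂_one] at hpa0
        exact ⟨0, by rw [pow_zero, show (1 : R) = 0 from Subtype.ext (by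
          show (1 : A[X]) = 0
          rw [← map_one Polynomial.C, hpa0, map_zero])]; exact I₀.zero_mem⟩
      obtain ⟨m, hm'⟩ : ∃ m, pa.natDegree = m + 1 := ⟨_, (Nat.succ_pred_eq_of_pos h0).symm⟩
      refine ⟨m + 1, ?_⟩
      have ha : a ∈ F (n + 1) := hRcoeff _ r.2 _
      have hz : a ^ (m + 1) ∈ F ((n + 1) * m) := by
        rw [Polynomial.eval₂_eq_sum_range, hm', Finset.sum_range_succ, ← hm', hpa.coeff_natDegree, map_one,
          _root_.one_mul, hm'] at hpa0
        have h2 : a ^ (m + 1) = -∑ j ∈ Finset.range (m + 1), algebraMap Cs A (pa.coeff j) * a ^ j :=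
          eq_neg_of_add_eq_zero_right hpa0
        rw [h2]
        refine Submodule.neg_mem _ (Submodule.sum_mem _ fun j hj => ?_)
        rw [← Algebra.smul_def]
        exact Submodule.smul_mem _ _ (degF_mono ws (Nat.mul_le_mul_left _ (Nat.lt_succ_iff.1 (Finset.mem_range.1 hj)))
          (degF_pow ha j))
      obtain ⟨M', hM'⟩ : ∃ M', (n + 1) * (m + 1) = M' + 1 := ⟨(n + 1) * (m + 1) - 1, by
        have : 0 < (n + 1) * (m + 1) := Nat.mul_pos n.succ_pos m.succ_pos
        omega⟩
      have hle : (n + 1) * m ≤ M' := by nlinarith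
      have heq : ((⟨_, hm⟩ : R) ^ (m + 1) : R) =
          ⟨Polynomial.monomial (M' + 1) (a ^ (m + 1)), hFR _ _ (degF_mono ws (by omega) hz)⟩ := Subtype.ext (by
        rw [SubmonoidClass.coe_pow, Polynomial.monomial_pow, hM'])
      rw [heq]
      exact hlift M' _ _ (degF_mono ws hle hz)
    have hC : Polynomial.C ((r : A[X]).coeff 0) ∈ R := by
      rw [← Polynomial.monomial_zero_left]; exact hFR 0 _ (hRcoeff _ r.2 0)
    refine ⟨hC, ?_⟩
    let P (n : ℕ) : R := ⟨Polynomial.monomial n ((r : A[X]).coeff n), hFR n _ (hRcoeff _ r.2 n)⟩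
    have hsum : r = ∑ n ∈ Finset.range ((r : A[X]).natDegree + 1), P n := Subtype.ext (by
      rw [AddSubmonoidClass.coe_finsetSum]
      exact (r : A[X]).as_sum_range)
    conv_lhs => rw [hsum, map_sum, Finset.sum_range_succ']
    have hz : ∀ n ∈ Finset.range (r : A[X]).natDegree, q (P (n + 1)) = 0 := fun n _ =>
      Ideal.Quotient.eq_zero_iff_mem.2 (hmem n (P (n + 1)).2)
    rw [Finset.sum_eq_zero hz, zero_add]
    congr 1
  have hd0' : p.natDegree ≠ 0 := fun h0 => hd0 (by
    rw [Polynomial.eq_one_of_monic_natDegree_zero hp h0, Polynomial.eval₂_one] at hpd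
    rw [← _root_.mul_one (q (mW w)), hpd, mul_zero])
  obtain ⟨m, hm⟩ : ∃ m, p.natDegree = m + 1 := ⟨_, (Nat.succ_pred_eq_of_ne_zero hd0').symm⟩
  have hcs' : ∀ j, ∃ c ∈ Cs, ∃ hc : Polynomial.C c ∈ R, (p.coeff j : R ⧸ J) = q ⟨_, hc⟩ := fun j => by
    obtain ⟨r, hr, hrq⟩ := (p.coeff j).2
    obtain ⟨c, hc, hc', hcq⟩ := hconst r hr
    exact ⟨c, hc, hc', hrq.symm.trans hcq⟩
  choose cc hcc hcc' hccq using hcs'
  let Q : R := mW w ^ (m + 1) + ∑ j ∈ Finset.range (m + 1), ⟨_, hcc' j⟩ * mW w ^ j
  have hQJ : Q ∈ J := by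
    rw [← Ideal.Quotient.eq_zero_iff_mem, ← Ideal.Quotient.mkₐ_eq_mk k, map_add, map_sum]
    rw [Polynomial.eval₂_eq_sum_range, hm, Finset.sum_range_succ, ← hm, hp.coeff_natDegree, map_one,
      _root_.one_mul, hm] at hpd
    rw [← hpd, add_comm, map_pow]
    congr 1
    refine Finset.sum_congr rfl fun j _ => ?_
    rw [map_mul, map_pow, ← hccq]
    rfl
  obtain ⟨N, hN⟩ := hQJ
  have hcQ : ∀ j, ((⟨_, hcc' j⟩ * mW w ^ j : R) : A[X]) = Polynomial.monomial j (cc j * (w : A) ^ j) := fun j => by
    rw [Subalgebra.coe_mul, hpow, ← Polynomial.C_mul_monomial]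
  have hQv : (Q : A[X]).natDegree ≤ m + 1 ∧ (Q : A[X]).coeff (m + 1) = (w : A) ^ (m + 1) := by
    simp only [Q, Subalgebra.coe_add, AddSubmonoidClass.coe_finsetSum, hcQ, hpow]
    refine ⟨Polynomial.natDegree_add_le_of_degree_le (Polynomial.natDegree_monomial_le _)
      (Polynomial.natDegree_sum_le_of_forall_le _ _ fun j hj =>
        (Polynomial.natDegree_monomial_le _).trans (Finset.mem_range.1 hj).le), ?_⟩
    rw [Polynomial.coeff_add, Polynomial.coeff_monomial, if_pos rfl, Polynomial.finsetSum_coeff,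
      Finset.sum_eq_zero fun j hj => by rw [Polynomial.coeff_monomial, if_neg (Finset.mem_range.1 hj).ne], add_zero]
  obtain ⟨M', hM'⟩ : ∃ M', (N + 1) * (m + 1) = M' + 1 := ⟨(N + 1) * (m + 1) - 1, by
    have : 0 < (N + 1) * (m + 1) := Nat.mul_pos N.succ_pos m.succ_pos
    omega⟩
  have h1 := hdrop M' _ (I₀.mul_mem_left Q hN)
  rw [← pow_succ', SubmonoidClass.coe_pow, ← hM', Polynomial.coeff_pow_of_natDegree_le hQv.1, hQv.2, ← pow_mul] at h1
  refine hd0 (Ideal.Quotient.eq_zero_iff_mem.2 ⟨M' + 1, ?_⟩)
  have heq : (mW w ^ (M' + 1) : R) = ⟨Polynomial.monomial (M' + 1) ((w : A) ^ (M' + 1)), by rw [← hpow]; exact Subtype.prop _⟩ :=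
    Subtype.ext (hpow w _)
  rw [heq]
  refine hlift M' _ _ ?_
  rwa [← hM', mul_comm]

end Groth.Agent.GrossU
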