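import Groth.Agent.S7125
import Groth.Agent.InvGen.NormalDvd
import Mathlib.GroupTheory.Finiteness

/-!
Monoids of elements of a Noetherian normal domain which are closed under division and embed in a
finitely generated group are finitely generated.
-/

set_option autoImplicit false
set_option maxHeartbeats 1000000
set_option linter.style.haveILetI false

universe u v

noncomputable section

namespace Groth.Agent.GrossU

variable {R : Type u} [CommRing R] [IsDomain R] [IsNoetherianRing R] [IsIntegrallyClosed R]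

/-- the order of an element at a height one prime -/
def ord (P : {P : Ideal R // P.IsPrime ∧ P.height = 1}) (x : R) : ℕ :=
  haveI := P.2.1
  haveI := S7125.dvr_of_height_one P.1 P.2.2
  (IsDiscreteValuationRing.addVal (Localization.AtPrime P.1) (algebraMap R _ x)).toNat

theorem addVal_eq_ord (P : {P : Ideal R // P.IsPrime ∧ P.height = 1}) {x : R} (hx : x ≠ 0) :
    haveI := P.2.1
    haveI := S7125.dvr_of_height_one P.1 P.2.2
    IsDiscreteValuationRing.addVal (Localization.AtPrime P.1) (algebraMap R _ x) = (ord P x : ℕ∞) := by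
  haveI := P.2.1
  haveI := S7125.dvr_of_height_one P.1 P.2.2
  refine (ENat.natCast_toNat fun h => hx ?_).symm
  rw [IsDiscreteValuationRing.addVal_eq_top_iff] at h
  exact IsLocalization.injective (Localization.AtPrime P.1) P.1.primeCompl_le_nonZeroDivisors (h.trans (map_zero _).symm)

theorem ord_mul (P : {P : Ideal R // P.IsPrime ∧ P.height = 1}) {x y : R} (hx : x ≠ 0) (hy : y ≠ 0) :
    ord P (x * y) = ord P x + ord P y := by
  haveI := P.2.1
  haveI := S7125.dvr_of_height_one P.1 P.2.2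
  have h := addVal_eq_ord P (mul_ne_zero hx hy)
  rw [map_mul, IsDiscreteValuationRing.addVal_mul, addVal_eq_ord P hx, addVal_eq_ord P hy] at h
  exact_mod_cast h.symm

/-- elements which are units away from the primes of `J` are ordered by their orders there -/
theorem dvd_of_ord_le {x y : R} (hx : x ≠ 0) (hy : y ≠ 0) (J : Set (Ideal R))
    (hJ : ∀ P : Ideal R, P.IsPrime → P.height = 1 → P ∉ J → x ∉ P)
    (h : ∀ P : {P : Ideal R // P.IsPrime ∧ P.height = 1}, P.1 ∈ J → ord P x ≤ ord P y) : x ∣ y := by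
  refine InvGen.dvd_of_forall_height_one hx fun P hP hP1 => ?_
  by_cases hPJ : P ∈ J
  · haveI := S7125.dvr_of_height_one P hP1
    have h1 : IsDiscreteValuationRing.addVal (Localization.AtPrime P) (algebraMap R _ x) ≤
        IsDiscreteValuationRing.addVal (Localization.AtPrime P) (algebraMap R _ y) := by
      rw [addVal_eq_ord ⟨P, hP, hP1⟩ hx, addVal_eq_ord ⟨P, hP, hP1⟩ hy]
      exact_mod_cast h ⟨P, hP, hP1⟩ hPJ
    obtain ⟨z, hz⟩ := IsDiscreteValuationRing.addVal_le_iff_dvd.1 h1
    obtain ⟨⟨a, s⟩, hs⟩ := IsLocalization.surj P.primeCompl z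
    refine ⟨s, s.2, a, IsLocalization.injective (Localization.AtPrime P) P.primeCompl_le_nonZeroDivisors ?_⟩
    rw [map_mul, map_mul, hz, ← hs]
    ring
  · exact ⟨x, hJ P hP hP1 hPJ, dvd_mul_right x y⟩

variable (S : Submonoid R)

/-- **finite generation of monoids closed under division** -/
theorem fg_of_saturated {L : Type v} [CommGroup L] [Group.FG L] (h0 : (0 : R) ∉ S)
    (hdiv : ∀ a x, a ∈ S → a * x ∈ S → x ∈ S) (φ : S →* L) (hφ : Function.Injective φ) :
    ∃ s : Finset R, (↑s : Set R) ⊆ S ∧ S ≤ Submonoid.closure (↑s : Set R) := by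
  classical
  have hne : ∀ x ∈ S, x ≠ 0 := fun x hx e => h0 (e ▸ hx)
  have hfgL : ∀ H : Subgroup L, H.FG := fun H => by
    rw [Subgroup.fg_iff_add_fg]
    haveI : Module.Finite ℤ (Additive L) := Module.Finite.iff_addGroup_fg.2 inferInstance
    have h1 := Submodule.fg_iff_addSubgroup_fg (AddSubgroup.toIntSubmodule H.toAddSubgroup)
    exact h1.1 (IsNoetherian.noetherian _)
  -- finitely many elements generating the group of all
  have gen : ∀ T : Set S, ∃ G₀ : Finset S, (↑G₀ : Set S) ⊆ T ∧ ∀ x ∈ T, ∃ a ∈ Submonoid.closure (↑G₀ : Set S),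
      ∃ b ∈ Submonoid.closure (↑G₀ : Set S), x * a = b := by
    intro T
    obtain ⟨F, hF⟩ := hfgL (Subgroup.closure (φ '' T))
    have hsub : ∀ g ∈ F, ∃ G₁ : Finset S, (↑G₁ : Set S) ⊆ T ∧ g ∈ Subgroup.closure (φ '' (↑G₁ : Set S)) := by
      intro g hg
      suffices h2 : ∀ g ∈ Subgroup.closure (φ '' T),
          ∃ G₁ : Finset S, (↑G₁ : Set S) ⊆ T ∧ g ∈ Subgroup.closure (φ '' (↑G₁ : Set S)) from
        h2 g (hF ▸ Subgroup.subset_closure hg)
      intro g h1
      induction h1 using Subgroup.closure_induction with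
      | mem g hg =>
        obtain ⟨x, hx, rfl⟩ := hg
        exact ⟨{x}, by simpa using hx, Subgroup.subset_closure ⟨x, by simp, rfl⟩⟩
      | one => exact ⟨∅, by simp, one_mem _⟩
      | mul g g' _ _ ih ih' =>
        obtain ⟨A, hA, hA'⟩ := ih
        obtain ⟨B, hB, hB'⟩ := ih'
        refine ⟨A ∪ B, by simpa using ⟨hA, hB⟩, mul_mem (Subgroup.closure_mono ?_ hA') (Subgroup.closure_mono ?_ hB')⟩
        · exact Set.image_mono (by simp)
        · exact Set.image_mono (by simp)
      | inv g _ ih =>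
        obtain ⟨A, hA, hA'⟩ := ih
        exact ⟨A, hA, inv_mem hA'⟩
    choose! G₁ hG₁ hG₁' using hsub
    refine ⟨F.biUnion G₁, ?_, fun x hx => ?_⟩
    · intro x hx
      obtain ⟨g, hg, hxg⟩ := Finset.mem_biUnion.1 (Finset.mem_coe.1 hx)
      exact hG₁ g hg hxg
    have hxF : φ x ∈ Subgroup.closure (φ '' (↑(F.biUnion G₁) : Set S)) := by
      have h1 : φ x ∈ Subgroup.closure (↑F : Set L) := hF ▸ Subgroup.subset_closure ⟨x, hx, rfl⟩
      refine (Subgroup.closure_le _).2 (fun g hg => ?_) h1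
      exact Subgroup.closure_mono (Set.image_mono fun y hy => Finset.mem_biUnion.2 ⟨g, hg, hy⟩) (hG₁' g hg)
    have key : ∀ g ∈ Subgroup.closure (φ '' (↑(F.biUnion G₁) : Set S)),
        ∃ a ∈ Submonoid.closure (↑(F.biUnion G₁) : Set S), ∃ b ∈ Submonoid.closure (↑(F.biUnion G₁) : Set S),
          g * φ a = φ b := by
      intro g hg
      induction hg using Subgroup.closure_induction with
      | mem g hg =>
        obtain ⟨y, hy, rfl⟩ := hg
        exact ⟨1, one_mem _, y, Submonoid.subset_closure hy, by simp⟩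
      | one => exact ⟨1, one_mem _, 1, one_mem _, by simp⟩
      | mul g g' _ _ ih ih' =>
        obtain ⟨a, ha, b, hb, h⟩ := ih
        obtain ⟨a', ha', b', hb', h'⟩ := ih'
        refine ⟨a * a', mul_mem ha ha', b * b', mul_mem hb hb', ?_⟩
        rw [map_mul, map_mul, mul_mul_mul_comm, h, h']
      | inv g _ ih =>
        obtain ⟨a, ha, b, hb, h⟩ := ih
        exact ⟨b, hb, a, ha, by rw [← h, inv_mul_cancel_left]⟩
    obtain ⟨a, ha, b, hb, h⟩ := key _ hxF
    exact ⟨a, ha, b, hb, hφ (by rw [map_mul]; exact h)⟩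
  obtain ⟨G₀, -, hG₀⟩ := gen Set.univ
  -- the product and its primes
  obtain ⟨p, hp⟩ : ∃ p : S, p = ∏ x ∈ G₀, x := ⟨_, rfl⟩
  have hpow : ∀ b ∈ Submonoid.closure (↑G₀ : Set S), ∃ N : ℕ, (b : R) ∣ (p : R) ^ N := by
    intro b hb
    induction hb using Submonoid.closure_induction with
    | mem b hb =>
      refine ⟨1, ?_⟩
      rw [pow_one, hp, Submonoid.coe_finsetProd]
      exact Finset.dvd_prod_of_mem (fun x : S => (x : R)) hb
    | one => exact ⟨0, by simp⟩
    | mul b c _ _ ih ih' =>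
      obtain ⟨N, hN⟩ := ih
      obtain ⟨N', hN'⟩ := ih'
      exact ⟨N + N', by rw [pow_add, Submonoid.coe_mul]; exact mul_dvd_mul hN hN'⟩
  have hdvdp : ∀ x : S, ∃ N : ℕ, (x : R) ∣ (p : R) ^ N := fun x => by
    obtain ⟨a, -, b, hb, hxab⟩ := hG₀ x (Set.mem_univ _)
    obtain ⟨N, hN⟩ := hpow b hb
    exact ⟨N, dvd_trans ⟨(a : R), by rw [← Submonoid.coe_mul, hxab]⟩ hN⟩
  let J := {P : {P : Ideal R // P.IsPrime ∧ P.height = 1} | (p : R) ∈ P.1}
  haveI : Finite J := by
    haveI := (Ideal.finite_minimalPrimes_of_isNoetherianRing R (Ideal.span {(p : R)})).to_subtype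
    refine Finite.of_injective (β := (Ideal.span {(p : R)}).minimalPrimes) (fun P => ⟨P.1.1, ?_⟩) fun P Q h => ?_
    · haveI := P.1.2.1
      refine Ideal.mem_minimalPrimes_of_height_le ((Ideal.span_singleton_le_iff_mem _).2 P.2) ?_
      rw [P.1.2.2]
      exact Ideal.one_le_height_span_singleton_of_mem_nonZeroDivisors (mem_nonZeroDivisors_of_ne_zero (hne _ p.2))
    · exact Subtype.ext (Subtype.ext (congrArg (fun z => z.1) h))
  let v : S → (J → ℕ) := fun x P => ord P.1 (x : R)
  have hv : ∀ x y : S, v (x * y) = v x + v y := fun x y =>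
    funext fun P => ord_mul P.1 (hne _ x.2) (hne _ y.2)
  have hle : ∀ x y : S, v x ≤ v y → ∃ z : S, y = x * z := by
    intro x y hxy
    obtain ⟨z, hz⟩ := dvd_of_ord_le (hne _ x.2) (hne _ y.2) {P | (p : R) ∈ P}
      (fun P hP _ hPJ hxP => by
        obtain ⟨N, hN⟩ := hdvdp x
        exact hPJ (hP.mem_of_pow_mem N (P.mem_of_dvd hN hxP)))
      fun P hPJ => hxy ⟨P, hPJ⟩
    exact ⟨⟨z, hdiv _ _ x.2 (hz ▸ y.2)⟩, Subtype.ext hz⟩
  -- units
  obtain ⟨G₁, hG₁0, hG₁⟩ := gen {x : S | v x = 0}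
  have hinv : ∀ x : S, v x = 0 → ∃ z : S, 1 = x * z := fun x hx => hle x 1 (by rw [hx]; exact zero_le)
  choose! iv hiv using hinv
  -- minimal elements
  let T : Set (J → ℕ) := {m | m ≠ 0 ∧ ∃ x : S, v x = m}
  have hTfin : {m | Minimal (· ∈ T) m}.Finite :=
    IsAntichain.finite_of_wellQuasiOrdered (setOfPred_minimal_antichain _) WellQuasiOrderedLE.wqo
  have hTfin' : ∀ m : {m | Minimal (· ∈ T) m}, ∃ x : S, v x = m.1 := fun m => m.2.1.2
  choose rep hrep using hTfin'
  haveI := hTfin.fintype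
  let gens : Finset S := Finset.univ.image rep ∪ (G₁ ∪ G₁.image iv)
  refine ⟨gens.image Subtype.val, fun y hy => ?_, fun y hy => ?_⟩
  · rw [Finset.coe_image] at hy
    obtain ⟨z, -, rfl⟩ := hy
    exact z.2
  suffices ∀ x : S, x ∈ Submonoid.closure (↑gens : Set S) by
    have h := Submonoid.mem_map_of_mem S.subtype (this ⟨y, hy⟩)
    rw [MonoidHom.map_mclosure] at h
    simpa using h
  have hG₁' : ∀ x ∈ Submonoid.closure (↑G₁ : Set S), ∃ z ∈ Submonoid.closure (↑gens : Set S), 1 = x * z := by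
    intro x hx
    induction hx using Submonoid.closure_induction with
    | mem x hx =>
      exact ⟨iv x, Submonoid.subset_closure (Finset.mem_coe.2 (Finset.mem_union_right _
        (Finset.mem_union_right _ (Finset.mem_image_of_mem _ hx)))), hiv x (hG₁0 hx)⟩
    | one => exact ⟨1, one_mem _, by simp⟩
    | mul x y _ _ ih ih' =>
      obtain ⟨z, hz, e⟩ := ih
      obtain ⟨z', hz', e'⟩ := ih'
      exact ⟨z * z', mul_mem hz hz', by rw [mul_mul_mul_comm, ← e, ← e', one_mul]⟩
  intro x
  induction hx : v x using WellFoundedLT.induction generalizing x with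
  | _ m ih =>
    rcases eq_or_ne m 0 with rfl | hm
    · obtain ⟨a, ha, b, hb, hab⟩ := hG₁ x hx
      obtain ⟨z, hz, e⟩ := hG₁' a ha
      have : x = b * z := by rw [← hab, mul_assoc, ← e, mul_one]
      rw [this]
      exact mul_mem (Submonoid.closure_mono (fun w hw => Finset.mem_coe.2 (Finset.mem_union_right _
        (Finset.mem_union_left _ hw))) hb) hz
    · obtain ⟨m₀, hm₀, hm₀'⟩ := exists_minimal_le_of_wellFoundedLT (· ∈ T) m ⟨hm, x, hx⟩
      obtain ⟨z, hz⟩ := hle (rep ⟨m₀, hm₀'⟩) x (by rw [hrep, hx]; exact hm₀)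
      rw [hz]
      refine mul_mem (Submonoid.subset_closure (Finset.mem_coe.2 (Finset.mem_union_left _
        (Finset.mem_image_of_mem _ (Finset.mem_univ _))))) (ih (v z) ?_ z rfl)
      rw [← hx, hz, hv, hrep]
      refine lt_of_le_of_ne le_add_self fun e => hm₀'.1.1 ?_
      exact add_eq_right.1 e.symm

end Groth.Agent.GrossU
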