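import Groth.Agent.GrossU.Connected
import Groth.Agent.PRed.RadBC.Quot
import Groth.Agent.RedQuot.Killed
import Groth.Agent.RedCent.Reductive
import Groth.Agent.Chev.BorelImage
import Groth.Agent.Chev.NonAffine
import Mathlib.RingTheory.Flat.FaithfullyFlat.Algebra

/-!
Finite generation of `k[G]^U`: reduction to connected reductive groups.
-/

set_option autoImplicit false
set_option backward.isDefEq.respectTransparency false
set_option maxHeartbeats 4000000
set_option synthInstance.maxHeartbeats 400000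
set_option linter.style.haveILetI false
set_option linter.unusedSectionVars false

universe u

open CategoryTheory Limits MonoidalCategory CartesianMonoidalCategory MonObj GrpObj AlgebraicGeometry
open WithConv
open scoped CategoryTheory.Obj TensorProduct

noncomputable section

namespace Groth.Agent.GrossU

open Groth.Agent.GModLib

variable {k : Type u} [Field k]

/-- the descent of elements along a faithfully flat extension -/
theorem mem_range_of_tmul {A B : Type u} [CommRing A] [CommRing B] [Algebra A B] [Module.FaithfullyFlat A B] {f : B}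
    (h : f ⊗ₜ[A] (1 : B) = (1 : B) ⊗ₜ[A] f) : f ∈ (algebraMap A B).range := by
  let W : Submodule A B := LinearMap.range (Algebra.linearMap A B)
  have h1 : W.mkQ f = 0 := by
    apply Module.FaithfullyFlat.tensorProduct_mk_injective (A := A) (B := B) (B ⧸ W)
    simp only [TensorProduct.mk_apply, TensorProduct.tmul_zero]
    have h2 := congrArg (W.mkQ.lTensor B) h
    rw [LinearMap.lTensor_tmul, LinearMap.lTensor_tmul] at h2
    rw [← h2, show W.mkQ (1 : B) = 0 from (Submodule.Quotient.mk_eq_zero W).2 ⟨1, by simp⟩, TensorProduct.tmul_zero]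
  obtain ⟨a, ha⟩ := (Submodule.Quotient.mk_eq_zero W).1 h1
  exact ⟨a, ha⟩

variable [IsAlgClosed k]

theorem isIso_toUnit_pt : IsIso (toUnit (VecGrp.pt k k)) := by
  haveI : IsIso (VecGrp.pt k k).hom := by
    show IsIso (Spec.map (CommRingCat.ofHom (algebraMap k k)))
    rw [Algebra.algebraMap_self, CommRingCat.ofHom_id, Spec.map_id]
    infer_instance
  haveI : IsIso ((Over.forget (Spec (CommRingCat.of k))).map (toUnit (VecGrp.pt k k))) := by
    show IsIso (toUnit (VecGrp.pt k k)).left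
    rw [Over.toUnit_left]
    infer_instance
  exact isIso_of_reflects_iso _ (Over.forget _)

/-- points lift along surjections -/
theorem exists_pt_lift {Z W : Over (Spec (CommRingCat.of k))} [LocallyOfFiniteType Z.hom] [LocallyOfFiniteType W.hom]
    (f : Z ⟶ W) [Surjective f.left] (w : VecGrp.pt k k ⟶ W) : ∃ z : VecGrp.pt k k ⟶ Z, z ≫ f = w := by
  haveI := isIso_toUnit_pt (k := k)
  obtain ⟨z, hz⟩ := Chev.Borel.exists_rp_of_mem_range f (inv (toUnit (VecGrp.pt k k)) ≫ w) (f.left.surjective _)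
  exact ⟨toUnit _ ≫ z, by rw [Category.assoc, hz, IsIso.hom_inv_id_assoc]⟩

variable {G Bo U : Over (Spec (CommRingCat.of k))} [GrpObj G] [GrpObj Bo] [GrpObj U]
variable {C : Type u} [CommRing C] [HopfAlgebra k C]

/-- coordinates of a closed subgroup are surjective -/
theorem surjective_of_comp {H : Over (Spec (CommRingCat.of k))} {D : Type u} [CommRing D] [HopfAlgebra k D]
    (e : (Spec (CommRingCat.of C)).asOver (Spec (CommRingCat.of k)) ≅ G)
    (e' : (Spec (CommRingCat.of D)).asOver (Spec (CommRingCat.of k)) ≅ H) (i : H ⟶ G) [IsClosedImmersion i.left]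
    (π : C →ₐc[k] D)
    (hπ : ∀ (B : Type u) [CommRing B] [Algebra k B] (ψ : D →ₐ[k] B),
      pnt e' ψ ≫ i = pnt e (ψ.comp (π : C →ₐ[k] D))) : Function.Surjective (π : C →ₐ[k] D) := by
  haveI : IsIso e'.hom.left := inferInstanceAs (IsIso ((Over.forget _).map e'.hom))
  haveI : IsIso e.inv.left := inferInstanceAs (IsIso ((Over.forget _).map e.inv))
  let π' : C →ₐ[k] D := π
  have h := hπ D (AlgHom.id k D)
  rw [AlgHom.id_comp] at h
  have h2 : Spec.map (CommRingCat.ofHom π'.toRingHom) = e'.hom.left ≫ i.left ≫ e.inv.left := by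
    have h3 := congrArg (fun t => (t ≫ e.inv).left) h
    simp only [pnt, Category.assoc, e.hom_inv_id, Category.comp_id] at h3
    refine h3.symm.trans ?_
    show (Spec.map (CommRingCat.ofHom (AlgHom.id k D).toRingHom) ≫ e'.hom.left ≫ i.left ≫ e.inv.left) = _
    rw [show CommRingCat.ofHom (AlgHom.id k D).toRingHom = 𝟙 _ from rfl, Spec.map_id, Category.id_comp]
  haveI : IsClosedImmersion (Spec.map (CommRingCat.ofHom π'.toRingHom)) := by rw [h2]; infer_instance
  intro d
  obtain ⟨y, hy⟩ := (IsClosedImmersion.isAffine_surjective_of_isAffine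
    (f := Spec.map (CommRingCat.ofHom π'.toRingHom))).2 ((Scheme.ΓSpecIso (CommRingCat.of D)).inv d)
  refine ⟨(Scheme.ΓSpecIso (CommRingCat.of C)).hom y, ?_⟩
  have h3 := congr($(Scheme.ΓSpecIso_naturality (CommRingCat.ofHom π'.toRingHom)) y)
  exact h3.symm.trans ((congrArg _ hy).trans (congr($((Scheme.ΓSpecIso (CommRingCat.of D)).inv_hom_id) d)))

/-- invariant functions descend to the quotient by a subgroup inside -/
theorem exists_finset_inv_of_quotient {Q V U' : Over (Spec (CommRingCat.of k))} [GrpObj Q] [GrpObj V] [GrpObj U']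
    [IsAffine G.left] [Smooth G.hom] [IsAffine Q.left] [Smooth Q.hom] [Smooth V.hom]
    [LocallyOfFiniteType U.hom] [LocallyOfFiniteType U'.hom]
    (q : G ⟶ Q) [IsMonHom q] [Flat q.left] [Surjective q.left] (v : V ⟶ G) [IsMonHom v] [IsClosedImmersion v.left]
    (hk : AlgGrp.IsKernel v q) (i : U ⟶ G) [IsMonHom i] (i' : U' ⟶ Q) [IsMonHom i']
    (p : U ⟶ U') [Surjective p.left] (hp : p ≫ i' = i ≫ q) (l : V ⟶ U) (hl : l ≫ i = v)
    {C' : Type u} [CommRing C'] [HopfAlgebra k C']
    (e : (Spec (CommRingCat.of C)).asOver (Spec (CommRingCat.of k)) ≅ G) [IsMonHom e.hom]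
    (e' : (Spec (CommRingCat.of C')).asOver (Spec (CommRingCat.of k)) ≅ Q) [IsMonHom e'.hom]
    (h : ∃ s : Finset C', (↑s : Set C') ⊆ GModLib.Inv (pts e' i') ∧
      GModLib.Inv (pts e' i') ≤ Algebra.adjoin k (↑s : Set C')) :
    ∃ s : Finset C, (↑s : Set C) ⊆ GModLib.Inv (pts e i) ∧ GModLib.Inv (pts e i) ≤ Algebra.adjoin k (↑s : Set C) := by
  classical
  haveI : Algebra.FiniteType k C := finiteType_of_smooth e
  haveI : Algebra.FiniteType k C' := finiteType_of_smooth e'
  haveI : _root_.IsReduced C := GModLib.isReduced_of_smooth e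
  haveI : _root_.IsReduced C' := GModLib.isReduced_of_smooth e'
  let w : (MTBridge.specGrp k C).X ⟶ (MTBridge.specGrp k C').X := e.hom ≫ q ≫ e'.inv
  haveI : IsMonHom w := by dsimp [w]; infer_instance
  obtain ⟨φ, hφ⟩ := MTBridge.exists_bialgHom w
  let φ' : C' →ₐ[k] C := φ
  have hcomp : ∀ {B : Type u} [CommRing B] [Algebra k B] (x : C →ₐ[k] B), pnt e x ≫ q = pnt e' (x.comp φ') := by
    intro B _ _ x
    refine Over.OverMorphism.ext ?_
    show (Spec.map (CommRingCat.ofHom x.toRingHom) ≫ e.hom.left) ≫ q.left =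
      Spec.map (CommRingCat.ofHom (x.comp φ').toRingHom) ≫ e'.hom.left
    have h2 : e.hom.left ≫ q.left = w.left ≫ e'.hom.left := by
      rw [← Over.comp_left, ← Over.comp_left]
      simp [w]
    rw [Category.assoc, h2, hφ, ← Spec.map_comp_assoc]
    rfl
  -- faithful flatness
  letI : Algebra C' C := φ'.toRingHom.toAlgebra
  haveI : IsScalarTower k C' C := IsScalarTower.of_algebraMap_eq fun x => (φ'.commutes x).symm
  haveI : Module.FaithfullyFlat C' C := by
    haveI : IsIso e.hom.left := inferInstanceAs (IsIso ((Over.forget _).map e.hom))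
    haveI : IsIso e'.inv.left := inferInstanceAs (IsIso ((Over.forget _).map e'.inv))
    have hw : w.left = e.hom.left ≫ q.left ≫ e'.inv.left := rfl
    haveI : Flat (Spec.map (CommRingCat.ofHom φ'.toRingHom)) := by
      have : Flat w.left := by rw [hw]; infer_instance
      rwa [hφ] at this
    haveI : Surjective (Spec.map (CommRingCat.ofHom φ'.toRingHom)) := by
      have : Surjective w.left := by rw [hw]; infer_instance
      rwa [hφ] at this
    haveI : Module.Flat C' C := RingHom.flat_algebraMap_iff.1 ((Flat.SpecMap_iff).1 ‹Flat (Spec.map _)›)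
    exact Module.FaithfullyFlat.of_comap_surjective (Spec.map (CommRingCat.ofHom φ'.toRingHom)).surjective
  have hφinj : Function.Injective φ' := FaithfulSMul.algebraMap_injective C' C
  obtain ⟨DV, _, _, _, _, eV, _, πV, hπV, hSGV⟩ := exists_coordinates e v
  have hVU : SG πV ≤ pts e i := by
    rw [hSGV]
    rintro _ ⟨x, hx⟩
    exact ⟨x ≫ l, by rw [Category.assoc, hl, hx]⟩
  -- descent
  have hdesc : ∀ f ∈ GModLib.Inv (pts e i), ∃ f', φ' f' = f := by
    intro f hf
    refine mem_range_of_tmul (A := C') ?_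
    have hsemi : Semi (SG πV) f 1 := fun g b hb => by
      rw [← apply_rt, hf b (hVU hb), map_one, _root_.mul_one]
    let R := C ⊗[C'] C
    haveI : IsScalarTower k C' (C ⊗[C'] C) := inferInstance
    let x : C →ₐ[k] R := (Algebra.TensorProduct.includeLeft (R := C') (S := C') (A := C) (B := C)).restrictScalars k
    let y : C →ₐ[k] R := (Algebra.TensorProduct.includeRight (R := C') (A := C) (B := C)).restrictScalars k
    have hxy : pnt e x ≫ q = pnt e y ≫ q := by
      rw [hcomp, hcomp]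
      congr 1
      refine AlgHom.ext fun a => ?_
      show (φ' a) ⊗ₜ[C'] (1 : C) = (1 : C) ⊗ₜ[C'] (φ' a)
      rw [show φ' a = a • (1 : C) from (Algebra.algebraMap_eq_smul_one a : algebraMap C' C a = _),
        TensorProduct.smul_tmul]
    have hker : ((pnt e x)⁻¹ * pnt e y) ≫ q = toUnit _ ≫ η[Q] := by
      rw [MonObj.mul_comp, GrpObj.inv_comp, hxy, inv_mul_cancel, Hom.one_def]
    let z := (show IsPullback v (toUnit V) q η[Q] from hk).lift _ _ hker
    obtain ⟨ψ, hψ⟩ := exists_eq_pnt eV z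
    have hy : pnt e y = pnt e (toConv x * toConv (ψ.comp (πV : C →ₐ[k] DV))).ofConv := by
      rw [pnt_mul, ← hπV, hψ, IsPullback.lift_fst, mul_inv_cancel_left]
    have h2 := AlgHom.congr_fun (pnt_injective e hy) f
    rw [Semi.valued hsemi, map_one, map_one, _root_.mul_one] at h2
    exact h2.symm
  -- the two groups of points
  have hres : ∀ (u : WithConv (C →ₐ[k] k)) (f' : C'),
      GModLib.rt u (φ' f') = φ' (GModLib.rt (toConv (u.ofConv.comp φ')) f') := fun u f' => ext_pt fun z => by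
    rw [apply_rt]
    show _ = (toConv (z.ofConv.comp φ')).ofConv _
    rw [apply_rt]
    have : toConv ((z * u).ofConv.comp φ') = toConv (z.ofConv.comp φ') * toConv (u.ofConv.comp φ') :=
      WithConv.ext (pnt_injective e' (by
        show pnt e' _ = pnt e' _
        rw [pnt_mul, ← hcomp, ← hcomp, ← hcomp, ← MonObj.mul_comp, ← pnt_mul, toConv_ofConv, toConv_ofConv]))
    rw [← this]
    rfl
  have hpush : ∀ u ∈ pts e i, toConv (u.ofConv.comp φ') ∈ pts e' i' := by
    rintro u ⟨x, hx⟩
    exact ⟨x ≫ p, by rw [Category.assoc, hp, ← Category.assoc, hx, hcomp]⟩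
  have hiff : ∀ f', φ' f' ∈ GModLib.Inv (pts e i) ↔ f' ∈ GModLib.Inv (pts e' i') := by
    refine fun f' => ⟨fun h u' hu' => ?_, fun h u hu => by rw [hres, h _ (hpush u hu)]⟩
    obtain ⟨x', hx'⟩ := hu'
    obtain ⟨x, rfl⟩ := exists_pt_lift p x'
    obtain ⟨u, hu⟩ := exists_eq_pnt e (x ≫ i)
    have he : toConv (u.comp φ') = u' := WithConv.ext (pnt_injective e' (by
      show pnt e' _ = pnt e' _
      rw [← hcomp, hu, Category.assoc, ← hp, ← Category.assoc, hx']))
    apply hφinj
    rw [← he, ← hres (toConv u), h (toConv u) ⟨x, hu.symm⟩]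
  obtain ⟨s, hs, hle⟩ := h
  refine ⟨s.image φ', ?_, fun f hf => ?_⟩
  · rw [Finset.coe_image]
    rintro _ ⟨a, ha, rfl⟩
    exact (hiff a).2 (hs ha)
  · obtain ⟨f', rfl⟩ := hdesc f hf
    have h1 := hle ((hiff f').1 hf)
    rw [Finset.coe_image, Algebra.adjoin_image]
    exact ⟨f', h1, rfl⟩

/-- connected groups -/
theorem exists_finset_inv_of_connected [IsAffine G.left] [Smooth G.hom] [ConnectedSpace G.left] (iB : Bo ⟶ G)
    [IsMonHom iB] (hB : Red.IsBorelOver k iB) (uB : U ⟶ Bo) [IsMonHom uB] (hU : Par.IsUnipotentRadical uB)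
    (e : (Spec (CommRingCat.of C)).asOver (Spec (CommRingCat.of k)) ≅ G) [IsMonHom e.hom] :
    ∃ s : Finset C, (↑s : Set C) ⊆ GModLib.Inv (pts e (uB ≫ iB)) ∧
      GModLib.Inv (pts e (uB ≫ iB)) ≤ Algebra.adjoin k (↑s : Set C) := by
  haveI : IsAffineHom G.hom := isAffineHom_of_isAffine _
  obtain ⟨hBm, hBc, hBs, hBconn, hBsol, -⟩ := id hB
  haveI := hBc; haveI := hBs; haveI := hBconn
  haveI : IsAffine Bo.left := isAffine_of_isAffineHom iB.left
  haveI : IsAffineHom Bo.hom := isAffineHom_of_isAffine _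
  obtain ⟨huim, hUa, hUs, hUcn, -⟩ := props_of_borel hB hU
  haveI := huim; haveI := hUa; haveI := hUs; haveI := hUcn
  obtain ⟨V, _, v, hv, hVa, hVc, hVt, -⟩ := UniRad.exists_unipotentRadical G
  haveI := hv.1; haveI := hv.2.1; haveI := hv.2.2.2.1; haveI := hVa; haveI := hVc
  obtain ⟨Q, _, q, hq, hQa, hQl, hqf, hqs, hker⟩ := Takeuchi.exists_affine_quotient G V v hv.2.2.1
  haveI := hq; haveI := hQa; haveI := hQl; haveI := hqf; haveI := hqs
  haveI : IsAffineHom Q.hom := isAffineHom_of_isAffine Q.hom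
  obtain ⟨-, hsm, hconn⟩ := Groth.Agent.S7983.result k G Q q
  haveI := hsm ‹_›
  haveI := hconn ‹_›
  have hQred : Red.IsReductiveOver k Q := RedQuot.isReductiveOver_of_radical_killed q hv (by
    rw [show v ≫ q = toUnit V ≫ η[Q] from (show IsPullback v (toUnit V) q η[Q] from hker).w, Hom.one_def])
  -- the radical is inside
  haveI := RedCent.isSolvable_of_noSubtorus hVt
  obtain ⟨vB, hvB⟩ := RedCent.exists_le_borel_of_normal iB hB v hv.2.2.1
  haveI : Mono iB := GrpField.SchImg.mono_of_isClosedImmersion iB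
  haveI : IsMonHom vB := MTSplit.isMonHom_of_comp_mono vB iB v hvB
  haveI : IsClosedImmersion vB.left := by
    haveI : IsClosedImmersion (vB.left ≫ iB.left) := by rw [← Over.comp_left, hvB]; infer_instance
    exact IsClosedImmersion.of_comp vB.left iB.left
  have hvBn : AlgGrp.IsNormalHom vB := fun T g n => by
    obtain ⟨n', hn'⟩ := hv.2.2.1 T (g ≫ iB) n
    refine ⟨n', (cancel_mono iB).1 ?_⟩
    rw [MonObj.mul_comp, MonObj.mul_comp, GrpObj.inv_comp, Category.assoc, Category.assoc, hvB, hn']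
  obtain ⟨l, hl⟩ := UniRad.exists_le_radical hU vB hvBn hVt
  -- the image
  haveI : QuasiCompact Bo.hom := by rw [← Over.w iB]; infer_instance
  obtain ⟨B', _, iB', pB, hiB', hpB, hiB'c, hB's, -, hpBs, hpBe⟩ := Chev.Borel.exists_smooth_image' (iB ≫ q)
  haveI := hiB'; haveI := hpB; haveI := hiB'c; haveI := hB's; haveI := hpBs
  have hB' : Red.IsBorelOver k iB' := Chev.Borel.isBorelOver_image q iB hB iB' pB hpBe
  haveI := hB'.2.2.2.1
  haveI : IsAffine B'.left := isAffine_of_isAffineHom iB'.left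
  obtain ⟨U', _, u', hU', -⟩ := UniRad.exists_unipotentRadical B'
  obtain ⟨f, hf, hfs⟩ := RedQuot.exists_radical_map pB hU hU'
  haveI := hfs; haveI := hU'.1
  haveI := hU'.2.2.2.1
  obtain ⟨C', _, e', he'⟩ := FinHopf.exists_hopf (R := CommRingCat.of k) Q
  haveI := he'
  exact exists_finset_inv_of_quotient q v hker (uB ≫ iB) (u' ≫ iB') f
    (by rw [← Category.assoc, hf, Category.assoc, hpBe, Category.assoc]) l (by rw [← Category.assoc, hl, hvB]) e e'
    (exists_finset_inv_connected hQred iB' hB' u' hU' e')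

/-- **finite generation, arbitrary linear algebraic groups** -/
theorem exists_finset_inv_general [IsAffine G.left] [Smooth G.hom] (iB : Bo ⟶ G) (hB : Red.IsBorelOver k iB)
    (uB : U ⟶ Bo) [IsMonHom uB] [IsMonHom iB] (hU : Par.IsUnipotentRadical uB)
    (e : (Spec (CommRingCat.of C)).asOver (Spec (CommRingCat.of k)) ≅ G) [IsMonHom e.hom] :
    ∃ s : Finset C, (↑s : Set C) ⊆ GModLib.Inv (pts e (uB ≫ iB)) ∧
      GModLib.Inv (pts e (uB ≫ iB)) ≤ Algebra.adjoin k (↑s : Set C) := by
  classical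
  obtain ⟨hBm, hBc, hBs, hBconn, hBsol, hmax⟩ := id hB
  haveI := hBc; haveI := hBs; haveI := hBconn
  haveI : Algebra.FiniteType k C := finiteType_of_smooth e
  haveI : _root_.IsReduced C := GModLib.isReduced_of_smooth e
  obtain ⟨G₀, _, j, hj, hjo, hjrange, hG₀s, hG₀c⟩ := exists_open_connected G
  haveI := hj; haveI := hjo; haveI := hG₀s; haveI := hG₀c
  haveI : IsClosedImmersion j.left := IsClosedImmersion.of_isPreimmersion j.left
    (hjrange ▸ isClosed_connectedComponent)
  haveI : IsAffine G₀.left := isAffine_of_isAffineHom j.left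
  haveI : Mono j := Over.mono_of_mono_left j
  have hrange : Set.range iB.left ⊆ Set.range j.left := by
    rw [hjrange]
    refine (isConnected_range iB.left.continuous).subset_connectedComponent ?_
    refine ⟨η[Bo].left (IsLocalRing.closedPoint k), ?_⟩
    rw [← Scheme.Hom.comp_apply, ← Over.comp_left, IsMonHom.one_hom]
  let b₀ : Bo ⟶ G₀ := Over.homMk (IsOpenImmersion.lift j.left iB.left hrange) (by
    rw [← Over.w j, ← Category.assoc, IsOpenImmersion.lift_fac, Over.w])
  have hb₀ : b₀ ≫ j = iB := Over.OverMorphism.ext (IsOpenImmersion.lift_fac j.left iB.left hrange)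
  haveI : IsMonHom b₀ := MTSplit.isMonHom_of_comp_mono b₀ j iB hb₀
  haveI : IsClosedImmersion b₀.left := by
    haveI : IsClosedImmersion (b₀.left ≫ j.left) := by rw [← Over.comp_left, hb₀]; infer_instance
    exact IsClosedImmersion.of_comp b₀.left j.left
  have hB₀ : Red.IsBorelOver k b₀ := by
    refine ⟨inferInstance, inferInstance, hBs, hBconn, hBsol, fun B'' _ i'' hi'' f hc'' hs'' hn'' hsol'' hf => ?_⟩
    haveI := hi''; haveI := hc''
    haveI : IsClosedImmersion (i'' ≫ j).left := inferInstanceAs (IsClosedImmersion (i''.left ≫ j.left))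
    exact hmax B'' (i'' ≫ j) f inferInstance hs'' hn'' hsol'' (by rw [← Category.assoc, hf, hb₀])
  obtain ⟨D₀, _, _, _, _, e₀, _, π₀, hπ₀, hSG₀⟩ := exists_coordinates e j
  obtain ⟨s, hs, hle⟩ := exists_finset_inv_of_connected b₀ hB₀ uB hU e₀
  -- the idempotent
  let c : Coords G G₀ j :=
    { C := C, D := D₀, e := e, e' := e₀, π := π₀, surj := surjective_of_comp e e₀ j π₀ hπ₀, comp := hπ₀ }
  obtain ⟨ε, hε, hεmem⟩ : ∃ ε : C, ε * ε = ε ∧ ∀ g : WithConv (C →ₐ[k] k), g.ofConv ε = 1 ↔ g ∈ SG π₀ :=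
    c.exists_idem
  have h01 : ∀ g : WithConv (C →ₐ[k] k), g.ofConv ε = 0 ∨ g.ofConv ε = 1 := fun g => by
    have h : g.ofConv ε * g.ofConv ε = g.ofConv ε := by rw [← map_mul, hε]
    rcases eq_or_ne (g.ofConv ε) 0 with h0 | h0
    · exact Or.inl h0
    · exact Or.inr (mul_left_cancel₀ h0 (h.trans (_root_.mul_one _).symm))
  have hUP : pts e (uB ≫ iB) ≤ SG π₀ := by
    rw [hSG₀]
    rintro _ ⟨x, hx⟩
    exact ⟨x ≫ uB ≫ b₀, by rw [Category.assoc, Category.assoc, hb₀, hx]⟩
  -- points of the radical in the component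
  have hUiff : ∀ ψ : WithConv (D₀ →ₐ[k] k), resPt π₀ ψ ∈ pts e (uB ≫ iB) ↔ ψ ∈ pts e₀ (uB ≫ b₀) := by
    intro ψ
    constructor
    · rintro ⟨x, hx⟩
      exact ⟨x, (cancel_mono j).1 (by rw [Category.assoc, Category.assoc, hb₀, hx, hπ₀]; rfl)⟩
    · rintro ⟨x, hx⟩
      exact ⟨x, by rw [← hb₀, ← Category.assoc uB b₀ j, ← Category.assoc x, hx, hπ₀]; rfl⟩
  -- extending functions from the component
  have hext : ∀ a : C, (π₀ : C →ₐ[k] D₀) a ∈ GModLib.Inv (pts e₀ (uB ≫ b₀)) →
      ε * a ∈ GModLib.Inv (pts e (uB ≫ iB)) := by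
    intro a ha v hv
    refine ext_pt (k := k) fun x => ?_
    rw [apply_rt, map_mul, map_mul]
    rcases h01 x with hx | hx
    · rcases h01 (x * v) with hxv | hxv
      · rw [hx, hxv, zero_mul, zero_mul]
      · have h1 : x ∈ SG π₀ := (Subgroup.mul_mem_cancel_right _ (hUP hv)).1 ((hεmem _).1 hxv)
        exact absurd ((hεmem x).2 h1) (by rw [hx]; exact zero_ne_one)
    · obtain ⟨χ, rfl⟩ := (hεmem x).1 hx
      obtain ⟨ψ, rfl⟩ := hUP hv
      rw [(hεmem _).2 ⟨χ * ψ, map_mul _ _ _⟩, hx, ← map_mul (resPt π₀) χ ψ]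
      show 1 * (χ * ψ).ofConv ((π₀ : C →ₐ[k] D₀) a) = 1 * χ.ofConv ((π₀ : C →ₐ[k] D₀) a)
      rw [← apply_rt, ha ψ ((hUiff ψ).1 hv)]
  have hrestr : ∀ f ∈ GModLib.Inv (pts e (uB ≫ iB)), (π₀ : C →ₐ[k] D₀) f ∈ GModLib.Inv (pts e₀ (uB ≫ b₀)) := by
    intro f hf ψ hψ
    refine ext_pt (k := k) fun χ => ?_
    rw [apply_rt]
    show (resPt π₀ (χ * ψ)).ofConv f = (resPt π₀ χ).ofConv f
    rw [map_mul, ← apply_rt, hf _ ((hUiff ψ).2 hψ)]
  choose σ hσ using fun a : D₀ => surjective_of_comp e e₀ j π₀ hπ₀ a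
  -- finitely many translates cover
  have htop : Ideal.span (Set.range fun h : WithConv (C →ₐ[k] k) => GModLib.lt h ε) = (⊤ : Ideal C) := by
    by_contra hne
    obtain ⟨m, hm, hle'⟩ := Ideal.exists_le_maximal _ hne
    haveI := hm.isPrime
    obtain ⟨φ, hφ⟩ := exists_pt_of_prime (k := k) m
    have h1 := hφ _ (hle' (Ideal.subset_span ⟨φ⁻¹, rfl⟩))
    rw [apply_lt, inv_mul_cancel, (hεmem 1).2 (one_mem _)] at h1
    exact one_ne_zero h1
  obtain ⟨T, hT, hT1⟩ : ∃ T : Finset C, (↑T : Set C) ⊆ Set.range (fun h => GModLib.lt h ε) ∧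
      (1 : C) ∈ Ideal.span (↑T : Set C) :=
    Submodule.mem_span_finite_of_mem_span (htop ▸ Submodule.mem_top)
  have hT' : ∀ t ∈ T, ∃ h : WithConv (C →ₐ[k] k), GModLib.lt h ε = t := fun t ht => hT ht
  choose! hh hhh using hT'
  let base : Finset C := insert ε (s.image fun a => ε * σ a)
  let gens : Finset C := T.biUnion fun t => base.image fun g => GModLib.lt (hh t) g
  have hεI : ε ∈ GModLib.Inv (pts e (uB ≫ iB)) := by
    simpa using hext 1 (by rw [map_one]; exact one_mem _)
  refine ⟨gens, ?_, fun f hf => ?_⟩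
  · intro x hx
    obtain ⟨t, -, hx'⟩ := Finset.mem_biUnion.1 (Finset.mem_coe.1 hx)
    obtain ⟨g, hg, rfl⟩ := Finset.mem_image.1 hx'
    refine GModLib.Inv_lt ?_ _
    rcases Finset.mem_insert.1 hg with rfl | hg
    · exact hεI
    · obtain ⟨a, ha, rfl⟩ := Finset.mem_image.1 hg
      exact hext _ (by rw [hσ]; exact hs ha)
  -- one coset
  have hcoset : ∀ g ∈ GModLib.Inv (pts e (uB ≫ iB)), ε * g ∈ Algebra.adjoin k (↑base : Set C) := by
    intro g hg
    have h1 : (π₀ : C →ₐ[k] D₀) g ∈ Algebra.adjoin k (↑s : Set D₀) := hle (hrestr g hg)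
    have key : ∀ d ∈ Algebra.adjoin k (↑s : Set D₀),
        ∀ a, (π₀ : C →ₐ[k] D₀) a = d → ε * a ∈ Algebra.adjoin k (↑base : Set C) := by
      have heq : ∀ a b : C, (π₀ : C →ₐ[k] D₀) a = (π₀ : C →ₐ[k] D₀) b → ε * a = ε * b := fun a b hab =>
        ext_pt (k := k) fun x => by
          rw [map_mul, map_mul]
          rcases h01 x with hx | hx
          · rw [hx, zero_mul, zero_mul]
          · obtain ⟨χ, rfl⟩ := (hεmem x).1 hx
            show _ * χ.ofConv ((π₀ : C →ₐ[k] D₀) a) = _ * χ.ofConv ((π₀ : C →ₐ[k] D₀) b)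
            rw [hab]
      intro d hd
      induction hd using Algebra.adjoin_induction with
      | mem d hd =>
        intro a ha
        rw [heq a (σ d) (ha.trans (hσ d).symm), show ε * σ d = ε * σ d from rfl]
        exact Algebra.subset_adjoin (Finset.mem_coe.2 (Finset.mem_insert_of_mem (Finset.mem_image_of_mem _ hd)))
      | algebraMap r =>
        intro a ha
        rw [heq a (algebraMap k C r) (ha.trans (AlgHom.commutes _ r).symm)]
        exact Subalgebra.mul_mem _ (Algebra.subset_adjoin (Finset.mem_coe.2 (Finset.mem_insert_self _ _)))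
          (Subalgebra.algebraMap_mem _ r)
      | add d d' _ _ hd hd' =>
        intro a ha
        rw [heq a (σ d + σ d') (by rw [map_add, hσ, hσ, ha]), mul_add]
        exact Subalgebra.add_mem _ (hd _ (hσ d)) (hd' _ (hσ d'))
      | mul d d' _ _ hd hd' =>
        intro a ha
        rw [heq a (σ d * σ d') (by rw [map_mul, hσ, hσ, ha]),
          show ε * (σ d * σ d') = (ε * σ d) * (ε * σ d') by rw [_root_.mul_mul_mul_comm, hε]]
        exact Subalgebra.mul_mem _ (hd _ (hσ d)) (hd' _ (hσ d'))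
    exact key _ h1 g rfl
  have hgen : ∀ t ∈ T, ∀ x ∈ Algebra.adjoin k (↑base : Set C),
      GModLib.lt (hh t) x ∈ Algebra.adjoin k (↑gens : Set C) := fun t ht x hx => by
    have : Algebra.adjoin k (↑base : Set C) ≤ (Algebra.adjoin k (↑gens : Set C)).comap (GModLib.lt (hh t)) :=
      Algebra.adjoin_le fun g hg => Algebra.subset_adjoin
        (Finset.mem_coe.2 (Finset.mem_biUnion.2 ⟨t, ht, Finset.mem_image_of_mem _ hg⟩))
    exact this hx
  have htg : ∀ t ∈ T, t ∈ Algebra.adjoin k (↑gens : Set C) := fun t ht => by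
    rw [← hhh t ht]
    exact hgen t ht ε (Algebra.subset_adjoin (Finset.mem_coe.2 (Finset.mem_insert_self _ _)))
  have hft : ∀ t ∈ T, f * t ∈ Algebra.adjoin k (↑gens : Set C) := fun t ht => by
    have h1 : f * t = GModLib.lt (hh t) (ε * GModLib.lt (hh t)⁻¹ f) := by
      rw [map_mul, hhh t ht, lt_mul_apply, inv_mul_cancel, lt_one_apply, mul_comm]
    rw [h1]
    exact hgen t ht _ (hcoset _ (GModLib.Inv_lt hf _))
  have hprod : ∀ T' : Finset C, T' ⊆ T → f * (1 - ∏ t ∈ T', (1 - t)) ∈ Algebra.adjoin k (↑gens : Set C) ∧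
      (∏ t ∈ T', (1 - t)) ∈ Algebra.adjoin k (↑gens : Set C) := by
    intro T'
    induction T' using Finset.induction_on with
    | empty => intro _; simp
    | insert t T' ht ih =>
      intro hsub
      obtain ⟨h1, h2⟩ := ih ((Finset.subset_insert _ _).trans hsub)
      have htT : t ∈ T := hsub (Finset.mem_insert_self _ _)
      rw [Finset.prod_insert ht]
      refine ⟨?_, Subalgebra.mul_mem _ (Subalgebra.sub_mem _ (Subalgebra.one_mem _) (htg t htT)) h2⟩
      rw [show f * (1 - (1 - t) * ∏ x ∈ T', (1 - x)) =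
        f * (1 - ∏ x ∈ T', (1 - x)) + (f * t) * ∏ x ∈ T', (1 - x) by ring]
      exact Subalgebra.add_mem _ h1 (Subalgebra.mul_mem _ (hft t htT) h2)
  have hz : ∏ t ∈ T, (1 - t) = 0 := ext_pt (k := k) fun x => by
    rw [map_prod, map_zero]
    by_contra hne
    rw [← ne_eq, Finset.prod_ne_zero_iff] at hne
    have hle' : Ideal.span (↑T : Set C) ≤ RingHom.ker x.ofConv := Ideal.span_le.2 fun t ht => by
      have h1 := hne t ht
      rw [map_sub, map_one] at h1
      obtain ⟨g, rfl⟩ := hT ht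
      show x.ofConv _ = 0
      rw [apply_lt] at h1 ⊢
      rcases h01 (g * x) with h0 | h0
      · exact h0
      · exact absurd (by rw [h0, sub_self]) h1
    exact one_ne_zero ((map_one x.ofConv).symm.trans (hle' hT1))
  have := (hprod T le_rfl).1
  rwa [hz, sub_zero, _root_.mul_one] at this

end Groth.Agent.GrossU
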