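import Groth.Agent.GrossU.Integral
import Groth.Agent.GrossU.Final
import Groth.Agent.S11208

/-!
Using the integrality criterion for maximal unipotent subgroups of reductive groups.
-/

set_option autoImplicit false
set_option backward.isDefEq.respectTransparency false
set_option maxHeartbeats 1000000
set_option synthInstance.maxHeartbeats 200000
set_option linter.style.haveILetI false
set_option linter.unusedSectionVars false

universe u

open CategoryTheory MonoidalCategory CartesianMonoidalCategory MonObj GrpObj AlgebraicGeometry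
open TensorProduct WithConv

noncomputable section

namespace Groth.Agent.GrossU

open Groth.Agent.GModLib

variable {k : Type u} [Field k] [IsAlgClosed k]
variable {G Bo U : Over (Spec (CommRingCat.of k))} [GrpObj G] [GrpObj Bo] [GrpObj U]

/-- invariants of the unipotent radical of a Borel subgroup are finitely generated -/
theorem fgInv_of_borel (hG : VecGrp.IsReductiveGrp k G) {iB : Bo ⟶ G} (hB : Red.IsBorelOver k iB) {u : U ⟶ Bo}
    (hU : Par.IsUnipotentRadical u) (thmA : VecGrp.ReductiveInvariantsFG k) : FGInv k (u ≫ iB) := by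
  intro E _ _ _ ρ hρ
  haveI := hG.1; haveI := hG.2.1
  obtain ⟨s, hs⟩ := (Groth.Agent.S11208.result k G hG Bo iB hB U u hU thmA E ρ hρ).out
  classical
  refine ⟨s.image Subtype.val, fun x hx => ?_, fun x hx => ?_⟩
  · rw [Finset.coe_image] at hx
    obtain ⟨y, -, rfl⟩ := hx
    exact y.2
  · have h1 : (⟨x, hx⟩ : ρ.fixedSubalgebra hρ (u ≫ iB)) ∈ Algebra.adjoin k (↑s : Set ↥(ρ.fixedSubalgebra hρ (u ≫ iB))) :=
      hs ▸ Algebra.mem_top
    rw [Finset.coe_image]
    exact (AlgHom.map_adjoin (ρ.fixedSubalgebra hρ (u ≫ iB)).val _).le ⟨_, h1, rfl⟩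

/-- coordinates -/
theorem exists_hopf_data (hG : VecGrp.IsReductiveGrp k G) :
    ∃ (C : Type u) (_ : CommRing C) (_ : HopfAlgebra k C) (_ : Algebra.FiniteType k C) (_ : _root_.IsReduced C)
      (e : (Spec (CommRingCat.of C)).asOver (Spec (CommRingCat.of k)) ≅ G), IsMonHom e.hom := by
  haveI := hG.1; haveI := hG.2.1
  obtain ⟨C, _, e, he⟩ := FinHopf.exists_hopf (R := CommRingCat.of k) G
  haveI := he
  exact ⟨C, inferInstance, inferInstance, finiteType_of_smooth e, isReduced_of_smooth e, e, he⟩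

variable {C : Type u} [CommRing C] [HopfAlgebra k C]
variable {A : Type u} [CommRing A] [Algebra k A]

/-- stable subspaces are stable under rational points -/
theorem stable_pts (e : (Spec (CommRingCat.of C)).asOver (Spec (CommRingCat.of k)) ≅ G) [IsMonHom e.hom]
    {ρ : VecGrp.GMod G A} {W : Submodule k A} (hW : ρ.IsStable (𝟙 G) W) (φ : WithConv (C →ₐ[k] k)) {x : A}
    (hx : x ∈ W) : TensorProduct.lid k A (ρ.ρ k (pnt e φ.ofConv) ((1 : k) ⊗ₜ[k] x)) ∈ W := by
  have h := hW k (pnt e φ.ofConv) x hx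
  rw [Category.comp_id, Submodule.baseChange_eq_span] at h
  generalize ρ.ρ k (pnt e φ.ofConv) ((1 : k) ⊗ₜ[k] x) = t at h
  induction h using Submodule.span_induction with
  | mem y hy =>
    obtain ⟨w, hw, rfl⟩ := hy
    simpa using hw
  | zero => simp
  | add y z _ _ hy hz => rw [map_add]; exact W.add_mem hy hz
  | smul c y _ hy => rw [map_smul]; exact W.smul_mem c hy

variable [IsAffine U.left] [Smooth U.hom] [ConnectedSpace U.left] [Algebra.FiniteType k C] [_root_.IsReduced C]

/-- integrality over every stable subalgebra containing the invariants, without finiteness -/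
theorem isIntegral_of_fixed_le {i : U ⟶ G} [IsMonHom i] (fg : FGInv k i) (hUno : Red.HasNoSubtorus k U)
    (e : (Spec (CommRingCat.of C)).asOver (Spec (CommRingCat.of k)) ≅ G) [IsMonHom e.hom] (α : Act k C A) (a : A) :
    ∃ Cs : Subalgebra k A, IsIntegral Cs a ∧ ∀ S : Subalgebra k A, α.Fixed (pts e i) ≤ S →
      (∀ φ, ∀ x ∈ S, α.σ φ x ∈ S) → Cs ≤ S := by
  classical
  obtain ⟨A₁, hA₁fg, haA₁, hA₁σ, -⟩ := α.exists_stable_subalgebra {a}
  obtain ⟨β, hβ⟩ := α.exists_sub A₁ hA₁σ
  haveI : Algebra.FiniteType k A₁ := (Subalgebra.fg_iff_finiteType _).1 hA₁fg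
  obtain ⟨t, ht⟩ := β.fg_fixed e i fg
  obtain ⟨C₁, hC₁fg, htC₁, hC₁σ, hC₁min⟩ := α.exists_stable_subalgebra (t.image Subtype.val)
  have hC₁A₁ : C₁ ≤ A₁ := hC₁min A₁ (fun x hx => by
    rw [Finset.coe_image] at hx
    obtain ⟨y, -, rfl⟩ := hx
    exact y.2) hA₁σ
  refine ⟨C₁, ?_, fun S hS hSσ => hC₁min S (fun x hx => ?_) hSσ⟩
  · let C₁' : Subalgebra k A₁ := C₁.comap A₁.val
    have hmap : C₁'.map A₁.val = C₁ := le_antisymm (Subalgebra.map_le.2 le_rfl) fun x hx => ⟨⟨x, hC₁A₁ hx⟩, hx, rfl⟩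
    have hfg' : C₁'.FG := Subalgebra.fg_of_fg_map C₁' A₁.val Subtype.val_injective (by rw [hmap]; exact hC₁fg)
    haveI := isIntegral_of_fixed e i fg hUno β C₁' hfg' (fun φ x hx => by
      show A₁.val (β.σ φ x) ∈ C₁
      rw [hβ]
      exact hC₁σ _ _ hx) (fun x hx => by
      have hxt : x ∈ C₁' := by
        have h1 : Algebra.adjoin k (↑t : Set A₁) ≤ C₁' := Algebra.adjoin_le fun y hy =>
          htC₁ (Finset.mem_coe.2 (Finset.mem_image_of_mem _ hy))
        exact h1 (ht.symm ▸ hx)
      exact isIntegral_algebraMap (x := (⟨x, hxt⟩ : C₁')))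
    have h2 : IsIntegral C₁' (⟨a, haA₁ (by simp)⟩ : A₁) := Algebra.IsIntegral.isIntegral _
    exact h2.map_of_comp_eq ((A₁.val.comp C₁'.val).codRestrict C₁ fun y => y.2).toRingHom A₁.val.toRingHom rfl
  · rw [Finset.coe_image] at hx
    obtain ⟨y, hy, rfl⟩ := hx
    exact hS (hβ.map_fixed (α := β) (ht ▸ Algebra.subset_adjoin hy))

end Groth.Agent.GrossU
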